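import Groth.Agent.H12Pic.BoundedEuler
import Groth.Agent.H12Pic.AlgEquivEuler
import Groth.Agent.H8Props.FreeLocus.Fibrewise
import Groth.Agent.H8Props.FunDescent.GenericLimit
import Groth.Agent.H11Ample.Basic
import Groth.Agent.H22Alg.DegAmple
import Groth.Agent.H22Alg.RedIntegral
import Groth.Agent.H11Sym.InvertibleInverse
import Groth.Agent.LeadBC.TrivFiber
import Groth.Agent.H11Tilde.Local

/-!
# Bounded families of invertible modules

Near a rational point where its fibre is invertible, a flat coherent family is invertible.  Hence two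
members of a sequence in a bounded family are joined by an irreducible family of invertible modules.
-/

set_option autoImplicit false
set_option linter.style.haveILetI false
set_option linter.unusedSectionVars false
universe u

open CategoryTheory CategoryTheory.Limits AlgebraicGeometry Opposite TopologicalSpace
open Groth.Agent.H25Theta (pb pT pC pI tI)

noncomputable section

namespace Groth.Agent.H12Pic.NumTriv.Family

open Groth.Agent.H8Props.FunDescent (StalkFree)

/-- A point of `Spec` of a field with trivial composite is the residue point. -/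
theorem exists_residue_lift {k : Type u} [Field k] {W : Scheme.{u}} (g : W ⟶ Spec (CommRingCat.of k))
    (w : Spec (CommRingCat.of k) ⟶ W) (hw : w ≫ g = 𝟙 _) :
    ∃ e : Spec (W.residueField (w (IsLocalRing.closedPoint k))) ⟶ Spec (CommRingCat.of k),
      e ≫ w = W.fromSpecResidueField (w (IsLocalRing.closedPoint k)) := by
  let b := W.descResidueField (Scheme.stalkClosedPointTo w)
  have hb : Spec.map b ≫ W.fromSpecResidueField _ = w :=
    Scheme.descResidueField_stalkClosedPointTo_fromSpecResidueField k W w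
  let a := Spec.preimage (W.fromSpecResidueField (w (IsLocalRing.closedPoint k)) ≫ g)
  have hab : a ≫ b = 𝟙 _ := by
    apply Spec.map_injective
    rw [Spec.map_comp, Spec.map_id, Spec.map_preimage, ← Category.assoc, hb, hw]
  have hba : b ≫ a = 𝟙 _ := by
    refine CommRingCat.hom_ext (RingHom.ext fun x => b.hom.injective ?_)
    exact congr($(congrArg CommRingCat.Hom.hom hab) (b.hom x))
  refine ⟨Spec.map a, ?_⟩
  calc Spec.map a ≫ w = Spec.map a ≫ Spec.map b ≫ W.fromSpecResidueField _ := by rw [hb]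
    _ = _ := by rw [← Category.assoc, ← Spec.map_comp, hba, Spec.map_id, Category.id_comp]

theorem exists_invertible_locus {k : Type u} [Field k] {X P W : Scheme.{u}} (sX : X ⟶ Spec (CommRingCat.of k))
    (g : W ⟶ Spec (CommRingCat.of k)) (f : P ⟶ W) [IsProper f] [IsLocallyNoetherian P] (G : P.Modules)
    (hG : Coh.IsCoh G) (hfl : FlatMod.IsFlatOver f G) :
    ∃ (U : W.Opens) (O : P.Opens), f ⁻¹ᵁ U ≤ O ∧ PicF.IsInvertible (G.restrict O.ι) ∧
      ∀ (w : Spec (CommRingCat.of k) ⟶ W), w ≫ g = 𝟙 _ → ∀ (σ : X ⟶ P), IsPullback σ sX f w →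
        PicF.IsInvertible ((Scheme.Modules.pullback σ).obj G) → w (IsLocalRing.closedPoint k) ∈ U := by
  classical
  let S := {V : P.Opens // Nonempty (G.restrict V.ι ≅ FlatMod.freeMod (↑V : Scheme.{u}) 1)}
  let O : P.Opens := ⨆ V : S, V.1
  let U : W.Opens := ⟨(f '' ((O : Set P)ᶜ))ᶜ, (f.isClosedMap _ O.isOpen.isClosed_compl).isOpen_compl⟩
  refine ⟨U, O, fun x hx => by_contra fun h => hx ⟨x, h, rfl⟩, ?_, fun w hw σ hsq hinv => ?_⟩
  · refine H11Tilde.isInvertible_of_openImmersions (fun V : S => P.homOfLE (le_iSup (fun V : S => V.1) V))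
      (fun x => ?_) _ fun V => ?_
    · obtain ⟨V, hV⟩ := Opens.mem_iSup.1 (x.2 : x.1 ∈ O)
      refine ⟨V, ⟨x.1, hV⟩, Subtype.ext ?_⟩
      simp
    · obtain ⟨e⟩ := V.2
      let i := P.homOfLE (le_iSup (fun V : S => V.1) V)
      refine H11Tilde.isInvertible_of_iso
        ((Scheme.Modules.restrictFunctorCongr (P.homOfLE_ι (le_iSup (fun V : S => V.1) V)).symm).app G ≪≫
          (Scheme.Modules.restrictFunctorComp i O.ι).app G) ?_
      exact H11Tilde.isInvertible_of_iso (e ≪≫ coproductUniqueIso fun _ : Fin 1 => Coh.structureModule (↑V.1 : Scheme.{u})).symm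
        H11Ample.isInvertible_structureModule
  · intro ⟨x, hxO, hx⟩
    refine hxO ?_
    let s := w (IsLocalRing.closedPoint k)
    obtain ⟨e, he⟩ := exists_residue_lift g w hw
    let ι := f.fiberι s
    let v : f.fiber s ⟶ X := hsq.lift ι (f.fiberToSpecResidueField s ≫ e)
      (by rw [Category.assoc, he]; exact (pullback.condition))
    obtain ⟨z, rfl⟩ : x ∈ Set.range ι := by rw [f.range_fiberι]; exact hx
    have h1 : StalkFree ((Scheme.Modules.pullback ι).obj G) 1 z := by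
      refine H8Props.FunDescent.stalkFree_iso (pC v σ (hsq.lift_fst _ _ _) G) ?_
      refine H8Props.FunDescent.stalkFree_pullback v _
        (H8Props.FunDescent.stalkFree_of_isFreeOfRankNear _ ?_ ?_)
      · exact H29Fitt.isQCoh_pullback σ G hG.1
      · obtain ⟨V, hV, ⟨eV⟩⟩ := hinv (v z)
        exact ⟨V, hV, ⟨eV ≪≫ (coproductUniqueIso fun _ : Fin 1 => Coh.structureModule (↑V : Scheme.{u})).symm⟩⟩
    have hFP := H10Coh.isFP_of_isCoh G hG
    obtain ⟨V, hzV, hV⟩ := H8Props.FunDescent.isFreeOfRankNear_of_stalkFree_of_isFP G hFP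
      (H8Props.FreeLocus.stalkFree_of_fibre f G hFP z (hfl _) h1)
    exact Opens.mem_iSup.2 ⟨⟨V, hV⟩, hzV⟩

/-- Pullback along a morphism into the invertible locus. -/
theorem isInvertible_pullback_of_range {P Q : Scheme.{u}} (O : P.Opens) {G : P.Modules}
    (hG : PicF.IsInvertible (G.restrict O.ι)) (h : Q ⟶ P) (hr : Set.range h ⊆ (O : Set P)) :
    PicF.IsInvertible ((Scheme.Modules.pullback h).obj G) := by
  let h' := IsOpenImmersion.lift O.ι h (by rwa [Scheme.Opens.range_ι])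
  exact H11Tilde.isInvertible_of_iso
    (pC h' O.ι (IsOpenImmersion.lift_fac _ _ _) G)
    (H11Ample.isInvertible_pullback h'
      (H11Tilde.isInvertible_of_iso ((Scheme.Modules.restrictFunctorIsoPullback O.ι).app G) hG))

variable (k : Type u) [Field k] {X : Scheme.{u}} [X.Over (Spec (CommRingCat.of k))]
  [IsProper (X ↘ Spec (CommRingCat.of k))]

/-- Two members of a sequence in a bounded family lie in one irreducible family of invertible modules. -/
theorem exists_irreducible_family {P : X.Modules → Prop} (hP : Pic13.IsBounded k X P) (L : ℕ → X.Modules)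
    (hL : ∀ n, P (L n)) (hinv : ∀ n, PicF.IsInvertible (L n)) :
    ∃ (a b : ℕ), a < b ∧ ∃ (T : Scheme.{u}) (q : T ⟶ Spec (CommRingCat.of k)),
      ConnectedSpace T ∧ LocallyOfFiniteType q ∧ QuasiCompact q ∧
      ∃ (M : (Pic13.prodK k X q).Modules), PicF.IsInvertible M ∧
        ∃ (t t₀ : Spec (CommRingCat.of k) ⟶ T) (ht : t ≫ q = 𝟙 _) (ht₀ : t₀ ≫ q = 𝟙 _),
          Nonempty (Pic13.fibreMod k X q t ht M ≅ L b) ∧ Nonempty (Pic13.fibreMod k X q t₀ ht₀ M ≅ L a) := by
  classical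
  obtain ⟨T, q, hq, hq', G, hG, hmem⟩ := hP
  haveI := hq
  haveI := hq'
  haveI : IsLocallyNoetherian T := LocallyOfFiniteType.isLocallyNoetherian q
  haveI : CompactSpace T := QuasiCompact.compactSpace_of_compactSpace q
  haveI : IsNoetherian T := {}
  obtain ⟨N, W, g, hW, hlift⟩ := BoundedEuler.exists_strata k q G hG
  let f := pullback.snd (X ↘ Spec (CommRingCat.of k)) q
  have hloc : ∀ i, ∃ (U : (W i).Opens) (O : (pullback f (g i)).Opens),
      pullback.snd f (g i) ⁻¹ᵁ U ≤ O ∧ PicF.IsInvertible ((pb (pullback.fst f (g i)) G).restrict O.ι) ∧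
      ∀ (w : Spec (CommRingCat.of k) ⟶ W i), w ≫ g i ≫ q = 𝟙 _ → ∀ (σ : X ⟶ pullback f (g i)),
        IsPullback σ (X ↘ Spec (CommRingCat.of k)) (pullback.snd f (g i)) w →
        PicF.IsInvertible ((Scheme.Modules.pullback σ).obj (pb (pullback.fst f (g i)) G)) →
          w (IsLocalRing.closedPoint k) ∈ U := fun i => by
    haveI := (hW i).1
    haveI : IsLocallyNoetherian (pullback f (g i)) :=
      LocallyOfFiniteType.isLocallyNoetherian (pullback.snd f (g i))
    exact exists_invertible_locus (X ↘ Spec (CommRingCat.of k)) (g i ≫ q) (pullback.snd f (g i)) _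
      (H17.ConsProp.isCoh_pullback (pullback.fst f (g i)) hG) (hW i).2.2
  choose U O hUO hOinv hmemU using hloc
  have hpt : ∀ n, ∃ (i : Fin N) (w : Spec (CommRingCat.of k) ⟶ W i) (ht : (w ≫ g i) ≫ q = 𝟙 _),
      Nonempty (Pic13.fibreMod k X q (w ≫ g i) ht G ≅ L n) ∧ w (IsLocalRing.closedPoint k) ∈ U i := fun n => by
    obtain ⟨t, ht, ⟨e⟩⟩ := hmem (L n) (hL n)
    obtain ⟨i, w, rfl⟩ := hlift t
    obtain ⟨σ, hsq, -, ⟨e'⟩⟩ := BoundedEuler.exists_slice k q (g i) w ht G
    exact ⟨i, w, ht, ⟨e⟩, hmemU i w (by rw [← Category.assoc]; exact ht) σ hsq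
      (H11Tilde.isInvertible_of_iso (e' ≪≫ e).symm (hinv n))⟩
  choose ix w ht hfib hwU using hpt
  haveI : ∀ i, NoetherianSpace (U i).toScheme := fun i => by
    haveI := (hW i).1
    exact (U i).ι.isOpenEmbedding.isInducing.noetherianSpace
  let Idx := Σ i : Fin N, irreducibleComponents (U i).toScheme
  haveI : ∀ i, Finite (irreducibleComponents (U i).toScheme) := fun i =>
    NoetherianSpace.finite_irreducibleComponents.to_subtype
  let pc : ℕ → Idx := fun n =>
    ⟨ix n, ⟨irreducibleComponent (⟨_, hwU n⟩ : (U (ix n)).toScheme), irreducibleComponent_mem_irreducibleComponents _⟩⟩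
  obtain ⟨a, b, hab, heq⟩ : ∃ a b, a < b ∧ pc a = pc b := by
    obtain ⟨a, b, hne, h⟩ := Finite.exists_ne_map_eq_of_infinite pc
    rcases lt_or_gt_of_ne hne with h' | h'
    · exact ⟨a, b, h', h⟩
    · exact ⟨b, a, h', h.symm⟩
  have key : ∀ {c d : Idx}, c = d → ∀ n, pc n = c → ∃ (w' : Spec (CommRingCat.of k) ⟶ W d.1)
      (ht : (w' ≫ g d.1) ≫ q = 𝟙 _) (h : w' (IsLocalRing.closedPoint k) ∈ U d.1),
      Nonempty (Pic13.fibreMod k X q (w' ≫ g d.1) ht G ≅ L n) ∧
      (⟨_, h⟩ : (U d.1).toScheme) ∈ (d.2 : Set (U d.1).toScheme) := by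
    rintro c _ rfl n rfl
    exact ⟨w n, ht n, hwU n, hfib n, mem_irreducibleComponent⟩
  obtain ⟨wa, hta, hwa, hLa, hZa⟩ := key (c := pc a) rfl a rfl
  obtain ⟨wb, htb, hwb, hLb, hZb⟩ := key (c := pc b) (d := pc a) heq.symm b rfl
  generalize pc a = c at wa hta hwa hLa hZa wb htb hwb hLb hZb
  obtain ⟨i, C, hC⟩ := c
  dsimp only at wa hta hwa hLa hZa wb htb hwb hLb hZb
  haveI := (hW i).1
  haveI := (hW i).2.1
  obtain ⟨η, hη⟩ : ∃ η : (U i).toScheme, closure {η} = C :=
    ⟨hC.1.genericPoint, hC.1.closure_genericPoint (isClosed_of_mem_irreducibleComponents _ hC)⟩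
  let J := Scheme.IdealSheafData.vanishingIdeal (⟨closure {η}, isClosed_closure⟩)
  haveI : IsIntegral J.subscheme := H22Alg.isIntegral_vanishingIdeal_closure η
  let j : J.subscheme ⟶ W i := J.subschemeι ≫ (U i).ι
  let qZ : J.subscheme ⟶ Spec (CommRingCat.of k) := j ≫ g i ≫ q
  haveI : CompactSpace J.subscheme := QuasiCompact.compactSpace_of_compactSpace J.subschemeι
  haveI : QuasiCompact qZ := (HasAffineProperty.iff_of_isAffine (P := @QuasiCompact)).2 inferInstance
  let p := pullback.fst (X ↘ Spec (CommRingCat.of k)) qZ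
  let h₁ : Pic13.prodK k X qZ ⟶ Pic13.prodK k X q :=
    pullback.lift p (pullback.snd _ qZ ≫ j ≫ g i) (by rw [pullback.condition]; simp [qZ, j, Category.assoc])
  let h₂ : Pic13.prodK k X qZ ⟶ pullback f (g i) :=
    pullback.lift h₁ (pullback.snd _ qZ ≫ j) ((pullback.lift_snd _ _ _).trans (Category.assoc _ _ _).symm)
  let M := pb h₂ (pb (pullback.fst f (g i)) G)
  have hM : PicF.IsInvertible M := by
    refine isInvertible_pullback_of_range (O i) (hOinv i) h₂ ?_
    rintro _ ⟨y, rfl⟩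
    refine hUO i ?_
    show pullback.snd f (g i) (h₂ y) ∈ U i
    rw [← Scheme.Hom.comp_apply, pullback.lift_snd, Scheme.Hom.comp_apply, Scheme.Hom.comp_apply]
    exact (J.subschemeι (pullback.snd _ qZ y)).2
  have hfibre : ∀ (w' : Spec (CommRingCat.of k) ⟶ W i) (ht : (w' ≫ g i) ≫ q = 𝟙 _)
      (h : w' (IsLocalRing.closedPoint k) ∈ U i), (⟨_, h⟩ : (U i).toScheme) ∈ C →
      ∃ (t : Spec (CommRingCat.of k) ⟶ J.subscheme) (hz : t ≫ qZ = 𝟙 _),
        Nonempty (Pic13.fibreMod k X qZ t hz M ≅ Pic13.fibreMod k X q (w' ≫ g i) ht G) := by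
    intro w' ht h hmemC
    obtain ⟨t, rfl⟩ : ∃ t : Spec (CommRingCat.of k) ⟶ J.subscheme, t ≫ j = w' := by
      refine H17.exists_lift_immersion_of_range_subset w' j ?_
      rintro _ ⟨z, rfl⟩
      rw [Subsingleton.elim z (IsLocalRing.closedPoint k)]
      have : (⟨_, h⟩ : (U i).toScheme) ∈ Set.range J.subschemeι := by
        rw [H17.range_vanishingIdeal_subschemeι]
        show _ ∈ closure {η}
        rw [hη]; exact hmemC
      obtain ⟨y, hy⟩ := this
      refine ⟨y, ?_⟩
      rw [Scheme.Hom.comp_apply, hy]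
      rfl
    refine ⟨t, by simpa [qZ, Category.assoc] using ht, ⟨?_⟩⟩
    refine pC _ h₂ rfl _ ≪≫ pC _ (pullback.fst f (g i)) ?_ G
    rw [Category.assoc, pullback.lift_fst]
    apply pullback.hom_ext
    · rw [Category.assoc, pullback.lift_fst]
      exact (pullback.lift_fst _ _ _).trans (pullback.lift_fst _ _ _).symm
    · rw [Category.assoc, pullback.lift_snd, ← Category.assoc]
      erw [pullback.lift_snd]
      simp only [Pic13.sliceAt, pullback.lift_snd, Category.assoc]
  obtain ⟨tb, hzb, ⟨eb⟩⟩ := hfibre wb htb hwb hZb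
  obtain ⟨ta, hza, ⟨ea⟩⟩ := hfibre wa hta hwa hZa
  exact ⟨a, b, hab, J.subscheme, qZ, inferInstance, inferInstance, inferInstance, M, hM, tb, ta, hzb, hza,
    ⟨eb ≪≫ Classical.choice hLb⟩, ⟨ea ≪≫ Classical.choice hLa⟩⟩

/-- An invertible module whose powers form a bounded family is τ-equivalent to zero. -/
theorem isTauEquivZero_of_bounded {P : X.Modules → Prop} (hP : Pic13.IsBounded k X P) {L : X.Modules}
    (hL : PicF.IsInvertible L) (h : ∀ n : ℕ, P (CohB1.tensorPow L n)) : Pic13.IsTauEquivZero k X L := by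
  have hpow : ∀ n : ℕ, PicF.IsInvertible (CohB1.tensorPow L n) := fun n => H11Ample.isInvertible_tensorPow hL n
  obtain ⟨a, b, hab, T, q, hc, hft, hqc, M, hM, t, t₀, ht, ht₀, ⟨e⟩, ⟨e₀⟩⟩ :=
    exists_irreducible_family k hP _ h hpow
  obtain ⟨L', hL', ⟨eL⟩⟩ := H11Sym.exists_inverse (hpow a)
  let eL' : CohB1.tensorMod (CohB1.tensorPow L a) L' ≅ Coh.structureModule X := H10Coh.Tw.commIso _ _ ≪≫ eL
  obtain ⟨c, rfl⟩ : ∃ c, b = c + a := ⟨b - a, by omega⟩
  obtain ⟨ep⟩ := H22Alg.DegAmple.nonempty_tensorPow_add L c a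
  let p := pullback.fst (X ↘ Spec (CommRingCat.of k)) q
  have hfib : ∀ (s : Spec (CommRingCat.of k) ⟶ T) (hs : s ≫ q = 𝟙 _),
      Nonempty (Pic13.fibreMod k X q s hs (CohB1.tensorMod M (pb p L')) ≅
        CohB1.tensorMod (Pic13.fibreMod k X q s hs M) L') := fun s hs =>
    ⟨pT (Pic13.sliceAt k X q s hs) M (pb p L') ≪≫ tI (Iso.refl _)
      (pC (Pic13.sliceAt k X q s hs) p (h := 𝟙 X) (pullback.lift_fst _ _ _) L' ≪≫ pI (𝟙 X) rfl L')⟩
  obtain ⟨f⟩ := hfib t ht
  obtain ⟨f₀⟩ := hfib t₀ ht₀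
  refine ⟨c, by omega, T, q, hc, hft, hqc, CohB1.tensorMod M (pb p L'),
    H11Ample.isInvertible_tensor hM (H11Ample.isInvertible_pullback p hL'), t, t₀, ht, ht₀, ⟨?_⟩, ⟨?_⟩⟩
  · exact f ≪≫ tI (e ≪≫ ep.symm) (Iso.refl L') ≪≫ H10Coh.Tw.assoc _ _ _ ≪≫ tI (Iso.refl _) eL' ≪≫
      H10Coh.Tw.rightUnitIso _
  · exact f₀ ≪≫ tI e₀ (Iso.refl L') ≪≫ eL'

end Groth.Agent.H12Pic.NumTriv.Family
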