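import Groth.Agent.H12Pic.NumTriv.Projective
import Groth.Agent.H22Alg.IntPush
import Groth.Agent.H17.GenFiniteDense
import Groth.Agent.LeadChow.Dense

/-!
# Numerically trivial twists keep Euler characteristics, on any proper scheme
-/

set_option autoImplicit false
set_option linter.style.haveILetI false
set_option linter.unusedSectionVars false
universe u

open CategoryTheory CategoryTheory.Limits AlgebraicGeometry Opposite TopologicalSpace

noncomputable section

namespace Groth.Agent.H12Pic.NumTriv

variable (k : Type u) [Field k] {X : Scheme.{u}} [X.Over (Spec (CommRingCat.of k))]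
  [IsProper (X ↘ Spec (CommRingCat.of k))]

omit [X.Over (Spec (CommRingCat.of k))] [IsProper (X ↘ Spec (CommRingCat.of k))] in
/-- Chow's lemma for an integral proper scheme. -/
theorem exists_chow_integral {Z : Scheme.{u}} [IsIntegral Z] (qZ : Z ⟶ Spec (CommRingCat.of k)) [IsProper qZ] :
    ∃ (W : Scheme.{u}) (π : W ⟶ Z) (A : W.Modules) (U : Z.Opens), IsIntegral W ∧ IsProper π ∧ Surjective π ∧
      CohB1.IsAmple A ∧ Dense (U : Set Z) ∧ IsIso (π ∣_ U) := by
  haveI : IsNoetherian Z := LeadChow.isNoetherian_source qZ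
  obtain ⟨N, W, π, j, hj, hjS, hπ, -, -, hs, ⟨U, hU, hiso⟩, hred, hirr⟩ :=
    LeadChow.exists_chow_dense qZ NoetherianSpace.finite_irreducibleComponents
  haveI := hj; haveI := hπ; haveI := hs
  haveI : IsReduced W := hred inferInstance
  haveI : IrreducibleSpace W := hirr inferInstance
  haveI : IsProper (CohB1.ProjSpaceOver.toBase N (Spec (CommRingCat.of k))) :=
    H27Weil.isProper_toBase N (Spec (CommRingCat.of k))
  haveI : IsProper j := by
    haveI : IsProper (π ≫ qZ) := MorphismProperty.comp_mem _ _ _ inferInstance inferInstance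
    haveI : IsProper (j ≫ CohB1.ProjSpaceOver.toBase N (Spec (CommRingCat.of k))) := hjS ▸ inferInstance
    exact IsProper.of_comp j (CohB1.ProjSpaceOver.toBase N (Spec (CommRingCat.of k)))
  haveI : IsClosedImmersion j := IsClosedImmersion.of_isPreimmersion j (j.isClosedMap.isClosed_range)
  obtain ⟨M, hM⟩ := H8Props.Ample.exists_isAmple_projSpaceOver N
    (H17.LocalProj.exists_isAmple_of_isAffine (Spec (CommRingCat.of k)))
  exact ⟨W, π, _, U, isIntegral_of_irreducibleSpace_of_isReduced W, hπ, hs,
    H11Ample.isAmple_pullback_of_isAffineHom j hM, hU, hiso⟩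

variable [IsAlgClosed k]

theorem euler_tensor : ∀ (r : ℕ) (F : X.Modules), Coh.IsCoh F →
    topologicalKrullDim (CohB1.support F) ≤ (r : WithBot ℕ∞) → ∀ L : X.Modules, NT k L →
      Curv2.euler k X (CohB1.tensorMod L F) = Curv2.euler k X F
  | 0, F, hF, hd', L, hL => H28Int.D_twist k (l := []) (by simp) hL.inv hF (by simpa using hd')
  | r + 1, F, hF, hd', L, hL => by
    haveI := H28Int.isNoetherian k (X := X)
    let ψ := fun F : X.Modules => Curv2.euler k X (CohB1.tensorMod L F) - Curv2.euler k X F
    have hψ : H28Int.IsAddFn ψ := ((H28Int.isAddFn_euler k).twist hL.inv).sub (H28Int.isAddFn_euler k)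
    have h0 : ∀ G, Coh.IsCoh G → topologicalKrullDim (CohB1.support G) < ((r + 1 : ℕ) : WithBot ℕ∞) → ψ G = 0 :=
      fun G hG hGd => sub_eq_zero.2 (euler_tensor r G hG ((lt_succ_iff' _ r).1 hGd) L hL)
    suffices hred : ∀ ξ : X, topologicalKrullDim (closure ({ξ} : Set X)) = ((r + 1 : ℕ) : WithBot ℕ∞) →
        ψ (H25K.redMod (H22Alg.DevLength.cl ξ)) = 0 by
      have h := H22Alg.DevLength.eq_finsum hψ h0 hF hd'
      rw [finsum_eq_zero_of_forall_eq_zero fun ξ => ?_] at h
      · exact sub_eq_zero.1 h
      · split_ifs with hξ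
        · rw [hred ξ hξ, mul_zero]
        · rfl
    intro ξ hξ
    -- Chow's lemma on the closure of `ξ`
    let J := Scheme.IdealSheafData.vanishingIdeal (H22Alg.DevLength.cl ξ)
    haveI : IsIntegral J.subscheme := H22Alg.isIntegral_vanishingIdeal_closure ξ
    let ζ := J.subschemeι
    obtain ⟨W, π, A, U, hW, hπ, hs, hA, hU, hiso⟩ :=
      exists_chow_integral k (ζ ≫ (X ↘ Spec (CommRingCat.of k)))
    haveI := hW; haveI := hπ; haveI := hs; haveI := hiso
    let h : W ⟶ X := π ≫ ζ
    haveI : IsProper h := MorphismProperty.comp_mem _ _ _ hπ inferInstance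
    letI : W.Over (Spec (CommRingCat.of k)) := ⟨h ≫ (X ↘ Spec (CommRingCat.of k))⟩
    haveI : IsProper (W ↘ Spec (CommRingCat.of k)) :=
      inferInstanceAs (IsProper (h ≫ (X ↘ Spec (CommRingCat.of k))))
    haveI := H28Int.isNoetherian k (X := W)
    let η := genericPoint W
    haveI : IsDominant π := ⟨hs.surj.denseRange⟩
    have hπη : π η = genericPoint J.subscheme := H17.GenFinite.map_genericPoint_of_isDominant π
    have hζ : ζ (genericPoint J.subscheme) = ξ := by
      have h1 : IsGenericPoint (ζ (genericPoint J.subscheme)) (closure {ξ}) := by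
        refine ((LeadDev.range_eq_closure ζ (ξ := ζ (genericPoint J.subscheme)) rfl).symm.trans ?_ : closure _ = _)
        exact H17.range_vanishingIdeal_subschemeι _
      exact h1.eq isGenericPoint_closure
    have hη : h η = ξ := by
      show ζ (π η) = ξ
      rw [hπη, hζ]
    have hgU : genericPoint J.subscheme ∈ U :=
      ((genericPoint_spec J.subscheme).mem_open_set_iff U.2).2 (by simpa using hU.nonempty)
    have hfib : ∀ x, h.base x = h.base η → x = η := fun x hx => by
      have hx' : π x = π η := ζ.isClosedEmbedding.injective hx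
      have hxU : x ∈ π ⁻¹ᵁ U := show π x ∈ U by rw [hx', hπη]; exact hgU
      have hηU : η ∈ π ⁻¹ᵁ U := show π η ∈ U by rw [hπη]; exact hgU
      have := (Scheme.homeoOfIso (asIso (π ∣_ U))).injective
        (a₁ := (⟨x, hxU⟩ : (π ⁻¹ᵁ U).toScheme)) (a₂ := ⟨η, hηU⟩) (Subtype.ext (by simpa using hx'))
      exact congrArg Subtype.val this
    have hfin : (h.residueFieldMap η).hom.Finite := by
      refine H17.finite_residueFieldMap h η (closure_subset_iff_isClosed.1 fun v _ => ?_)
      refine (h.fiberι (h η)).isEmbedding.injective ?_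
      rw [Scheme.Hom.fiberι_asFiber]
      exact hfib _ ((h.range_fiberι _).subset ⟨v, rfl⟩)
    have hpos : 0 < h.residueDegree η := by
      letI := (h.residueFieldMap η).hom.toAlgebra
      haveI : Module.Finite (X.residueField (h.base η)) (W.residueField η) := hfin
      exact Module.finrank_pos
    -- twist to kill the higher direct images
    let P := (Scheme.Modules.pullback h).obj L
    have hP : NT k P := hL.pullback k h rfl
    obtain ⟨m₁, h₁⟩ := H22Alg.IntPush.exists_acyclic h hA P (H11Ample.isCoh_of_isInvertible hP.inv)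
    obtain ⟨m₂, h₂⟩ := H22Alg.IntPush.exists_acyclic h hA (Coh.structureModule W)
      (H11Ample.isCoh_of_isInvertible H11Ample.isInvertible_structureModule)
    let m := max m₁ m₂
    let N := CohB1.tensorMod (Coh.structureModule W) (CohB1.tensorPow A m)
    have hAm := H11Ample.isInvertible_tensorPow hA.1 m
    have hN : PicF.IsInvertible N := H11Ample.isInvertible_tensor H11Ample.isInvertible_structureModule hAm
    let G := (Coh.push h).obj N
    have hGc : Coh.IsCoh G := by
      haveI : (Scheme.Modules.pushforward h).IsRightAdjoint :=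
        (Scheme.Modules.pullbackPushforwardAdjunction h).isRightAdjoint
      haveI : PreservesFiniteLimits (Scheme.Modules.pushforward h) := inferInstance
      exact H10Coh.isCoh_of_iso ((Scheme.Modules.pushforward h).rightDerivedZeroIsoSelf.app N)
        (H10Coh.isCoh_rpush h N (H11Ample.isCoh_of_isInvertible hN) 0)
    have hsupp : CohB1.support G ⊆ closure ({ξ} : Set X) :=
      H28Int.Curves.support_push_subset h N isClosed_closure (by
        rintro _ ⟨y, rfl⟩
        rw [← hη]
        exact ((genericPoint_specializes y).map h.continuous).mem_closure)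
    have hψG : ψ G = 0 := by
      obtain ⟨e⟩ := H10Coh.Tw.nonempty_push_tensor_iso h N hL.inv
      let e' : CohB1.tensorMod L G ≅ (Coh.push h).obj (CohB1.tensorMod P (CohB1.tensorPow A m)) :=
        H10Coh.Tw.commIso L G ≪≫ e ≪≫ (Coh.push h).mapIso (H10Coh.Tw.commIso N P ≪≫
          PicGrp.tensorModIso (Iso.refl P) (H10Coh.Tw.leftUnitIso _))
      obtain ⟨n, i, hi, hq⟩ := H22Alg.CurveProj.exists_closedImmersion k W hA
      obtain ⟨s, hsd⟩ := exists_dim k (X := W)
      have h3 := (good_of_dim k i hq hsd (H11Ample.isCoh_of_isInvertible hAm)).chi P hP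
      rw [H25Euler.euler_congr (H10Coh.Tw.commIso (CohB1.tensorPow A m) P)] at h3
      refine sub_eq_zero.2 ?_
      rw [H25Euler.euler_congr e', H22Alg.IntPush.euler_push k h rfl _ (h₁ m (le_max_left _ _)), h3,
        H22Alg.IntPush.euler_push k h rfl N (h₂ m (le_max_right _ _))]
      exact H25Euler.euler_congr (H10Coh.Tw.leftUnitIso _).symm
    have hlen := H22Alg.IntPush.length_push h h.isClosedMap hN hfib hfin
    have hsum := H22Alg.DevLength.eq_finsum hψ h0 hGc ((H28Int.dim_le_of_subset hsupp).trans hξ.le)
    rw [hψG, finsum_eq_single _ ξ ?_] at hsum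
    · try dsimp only at hsum
      rw [if_pos hξ] at hsum
      have hl : H22Alg.DevLength.len G ξ = (h.residueDegree η : ℕ∞) := by rw [← hη]; exact hlen
      rw [hl, ENat.toNat_natCast] at hsum
      exact (mul_eq_zero.1 hsum.symm).resolve_left (by exact_mod_cast hpos.ne')
    · intro x hx
      split_ifs with hxd
      · rw [H22Alg.DevLength.len_eq_zero fun hs' => ?_]
        · simp
        · exact (H22Alg.DevLength.dim_closure_lt (specializes_iff_mem_closure.2 (hsupp hs')) hx hξ.le).ne hxd
      · rfl

theorem euler_tensor_eq {F : X.Modules} (hF : Coh.IsCoh F) {L : X.Modules} (hL : NT k L) :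
    Curv2.euler k X (CohB1.tensorMod L F) = Curv2.euler k X F := by
  obtain ⟨r, hr⟩ := exists_dim k (X := X)
  exact euler_tensor k r F hF ((Topology.IsInducing.subtypeVal.topologicalKrullDim_le).trans hr) L hL

end Groth.Agent.H12Pic.NumTriv
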