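import Groth.Agent.H12Pic.NumTriv.Induct
import Groth.Agent.H12Pic.NumTriv.Family
import Groth.Agent.H22Alg.MumfordBdd
import Groth.Agent.H22Alg.CurveProj
import Groth.Agent.H8Props.FieldDimScheme

/-!
# Numerically trivial modules on a projective scheme form a bounded family
-/

set_option autoImplicit false
set_option linter.style.haveILetI false
set_option linter.unusedSectionVars false
universe u

open CategoryTheory CategoryTheory.Limits AlgebraicGeometry Opposite TopologicalSpace

noncomputable section

namespace Groth.Agent.H12Pic.NumTriv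

variable (k : Type u) [Field k] {X : Scheme.{u}} [X.Over (Spec (CommRingCat.of k))]
  [IsProper (X ↘ Spec (CommRingCat.of k))]

include k in
theorem exists_dim : ∃ r : ℕ, topologicalKrullDim X ≤ (r : WithBot ℕ∞) := by
  classical
  haveI := H28Int.isNoetherian k (X := X)
  haveI : LocallyOfFiniteType (X ↘ Spec (CommRingCat.of k)) := inferInstance
  have hfin : (irreducibleComponents X).Finite := NoetherianSpace.finite_irreducibleComponents
  have hc : ∀ C : hfin.toFinset, ∃ s : ℕ, topologicalKrullDim (C.1 : Set X) = s := fun C => by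
    have hC := hfin.mem_toFinset.1 C.2
    obtain ⟨s, hs⟩ := H8Props.FieldDim.exists_nat_cdim (X ↘ Spec (CommRingCat.of k)) hC.1.genericPoint
    refine ⟨s, ?_⟩
    rw [← hs, H8Props.FieldDim.cdim, hC.1.closure_genericPoint (isClosed_of_mem_irreducibleComponents _ hC)]
  choose s hs using hc
  refine ⟨∑ C, s C, ?_⟩
  rw [H8Props.FieldDim.dim_eq_iSup_cdim]
  refine iSup_le fun x => ?_
  let C : hfin.toFinset := ⟨irreducibleComponent x,
    hfin.mem_toFinset.2 (irreducibleComponent_mem_irreducibleComponents x)⟩
  refine (H8Props.FieldDim.dim_mono (closure_minimal (Set.singleton_subset_iff.2 mem_irreducibleComponent)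
    isClosed_irreducibleComponent)).trans ?_
  show topologicalKrullDim (C.1 : Set X) ≤ _
  rw [hs C]
  exact_mod_cast Finset.single_le_sum (fun D _ => Nat.zero_le (s D)) (Finset.mem_univ C)

variable {n : ℕ} (i : X ⟶ CohB1.ProjSpace n k) [IsClosedImmersion i]

open H22Alg H22Alg.MumfordBdd H22Alg.CMField in
/-- Regular modules with given Euler characteristics in all degrees form a bounded family. -/
theorem isBounded_regular_fun (hι : i ≫ CohB1.ProjSpace.toSpec n k = X ↘ Spec (CommRingCat.of k)) (m : ℤ)
    (f : ℤ → ℤ) :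
    Pic13.IsBounded k X (fun F : X.Modules => Coh.IsCoh F ∧ Pic13.IsMRegular k i F m ∧
      ∀ d : ℤ, Curv2.euler k X (Pic13.twistOn k i F d) = f d) := by
  haveI := CMHyper.noetherian k n
  haveI := MumfordBound.proper_toSpec (k := k) (n := n)
  haveI : IsLocallyNoetherian X := LocallyOfFiniteType.isLocallyNoetherian i
  have hs := setup k n
  obtain ⟨a, b, hab⟩ := exists_presentation (k := k) (n := n) m f
  let A : X.Modules := (Scheme.Modules.pullback i).obj (∐ fun _ : Fin a => Twist.twistProjSpace n k (-m))
  let B : X.Modules := (Scheme.Modules.pullback i).obj (∐ fun _ : Fin b => Twist.twistProjSpace n k (-(m + 1)))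
  refine BoundedCoker.isBounded_cokernels (A := A) (B := B)
    (H17.ConsProp.isCoh_pullback i (H10Coh.isCoh_sigma _ fun _ => H11Ample.isCoh_of_isInvertible (hs.fam.inv _)))
    (H17.ConsProp.isCoh_pullback i (H10Coh.isCoh_sigma _ fun _ => H11Ample.isCoh_of_isInvertible (hs.fam.inv _)))
    _ fun F hF => ?_
  obtain ⟨hc, hreg, hφ⟩ := hF
  have hE : Coh.IsCoh ((Coh.push i).obj F) := H10Coh.isCoh_push_of_isFinite i _ hc
  obtain ⟨v, ⟨e⟩⟩ := hab _ hE (fun q hq => (van_push_iff i hc q _).2 (hreg q hq)) fun d => by
    have hi := hs.fam.inv d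
    obtain ⟨e⟩ := H10Coh.Tw.nonempty_push_tensor_iso i F hi
    haveI : (CohB1.tensorMod F ((Scheme.Modules.pullback i).obj (Twist.twistProjSpace n k d))).IsQuasicoherent :=
      (H11Ample.isCoh_tensor hc (H11Ample.isInvertible_pullback i hi)).1
    rw [H25Euler.euler_congr e, H28Int.Push.euler_push k i hι]
    exact hφ d
  haveI : (Scheme.Modules.pullback i).IsLeftAdjoint :=
    (Scheme.Modules.pullbackPushforwardAdjunction i).isLeftAdjoint
  haveI : (Scheme.Modules.pullback i).Additive :=
    (Scheme.Modules.pullbackPushforwardAdjunction i).left_adjoint_additive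
  exact ⟨(Scheme.Modules.pullback i).map v, ⟨(PreservesCokernel.iso (Scheme.Modules.pullback i) v).symm ≪≫
    (Scheme.Modules.pullback i).mapIso e ≪≫
    @asIso _ _ _ _ _ (H24Hilb.Closed.isIso_counit_of_isClosedImmersion i F)⟩⟩

omit [IsClosedImmersion i] in
theorem isBounded_mono {P Q : X.Modules → Prop} (hQ : Pic13.IsBounded k X Q) (h : ∀ L, P L → Q L) :
    Pic13.IsBounded k X P := by
  obtain ⟨T, q, h1, h2, F, hF, hmem⟩ := hQ
  exact ⟨T, q, h1, h2, F, hF, fun L hL => hmem L (h L hL)⟩

variable [IsAlgClosed k]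

/-- The numerically trivial invertible modules on a projective scheme form a bounded family. -/
theorem isBounded_nt (hi : i ≫ CohB1.ProjSpace.toSpec n k = X ↘ Spec (CommRingCat.of k)) :
    Pic13.IsBounded k X (NT k) := by
  haveI := H28Int.isNoetherian k (X := X)
  obtain ⟨r, hr⟩ := exists_dim k (X := X)
  have hO : Coh.IsCoh (Coh.structureModule X) := H11Ample.isCoh_of_isInvertible H11Ample.isInvertible_structureModule
  obtain ⟨m, hm⟩ := (good_of_dim k i hi hr hO).reg
  refine isBounded_mono k (isBounded_regular_fun k i hi (m : ℤ)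
    fun d => Curv2.euler k X (TwistOn.O i d)) fun L hL => ?_
  refine ⟨H11Ample.isCoh_of_isInvertible hL.inv, fun q hq => ?_, fun d => ?_⟩
  · haveI := hm L hL q hq
    refine subsingleton_of_hd_zero k (H11Ample.isCoh_tensor (H11Ample.isCoh_of_isInvertible hL.inv)
      ((TwistOn.fam i).inv _)) ?_
    refine Eq.trans ?_ (Module.finrank_zero_of_subsingleton (R := k)
      (M := Coh.HH X (Pic13.twistOn k i (CohB1.tensorMod (Coh.structureModule X) L) ((m : ℤ) - q)) q))
    exact H25Index.hd_congr (PicGrp.tensorModIso (H10Coh.Tw.leftUnitIso L).symm (Iso.refl _)) q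
  · have h := (good_of_dim k i hi hr (H11Ample.isCoh_of_isInvertible ((TwistOn.fam i).inv d))).chi L hL
    exact (H25Euler.euler_congr (H10Coh.Tw.commIso L (TwistOn.O i d))).trans h

/-- On a proper scheme with an ample module numerically trivial implies τ-trivial. -/
theorem isTauEquivZero_of_ample {A : X.Modules} (hA : CohB1.IsAmple A) {L : X.Modules} (hL : NT k L) :
    Pic13.IsTauEquivZero k X L := by
  obtain ⟨n, i, hi, hq⟩ := H22Alg.CurveProj.exists_closedImmersion k X hA
  exact Family.isTauEquivZero_of_bounded k (isBounded_nt k i hq) hL.inv fun j => hL.pow k j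

end Groth.Agent.H12Pic.NumTriv
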