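import Groth.Agent.H12Pic.NefBC
import Groth.Agent.H11Sym.InvertibleInverse
import Groth.Agent.LeadBC.TrivFiber

/-!
# Numerically trivial invertible modules
-/

set_option autoImplicit false
set_option linter.style.haveILetI false
set_option linter.unusedSectionVars false
universe u

open CategoryTheory CategoryTheory.Limits AlgebraicGeometry Opposite TopologicalSpace
open Groth.Agent.H11Ample Groth.Agent.H22Alg

noncomputable section

namespace Groth.Agent.H12Pic.NumTriv

variable {X : Scheme.{u}} (k : Type u) [Field k] [X.Over (Spec (CommRingCat.of k))]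

/-- An invertible module of degree zero on all integral curves. -/
structure NT (L : X.Modules) : Prop where
  inv : PicF.IsInvertible L
  num : Pic13.IsNumEquivZero k X L

variable [IsProper (X ↘ Spec (CommRingCat.of k))]

theorem num_iff_Q {L : X.Modules} (hL : PicF.IsInvertible L) :
    Pic13.IsNumEquivZero k X L ↔ ∀ (Z : Scheme.{u}) (i : Z ⟶ X) [IsClosedImmersion i] [IsIntegral Z],
      topologicalKrullDim Z = ((1 : ℕ) : WithBot ℕ∞) → NefQ.Q k [L] (ClSub.quotMod i.ker) = 0 := by
  constructor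
  · intro h Z i _ _ hd
    rw [← NefBC.curveDeg_eq_Q k i (hd.trans (by simp)) hL]
    exact h Z i inferInstance (hd.trans (by simp))
  · intro h Y i _ hY hd
    rw [NefBC.curveDeg_eq_Q k i hd hL]
    exact h Y i (hd.trans (by simp))

theorem NT.Q_eq {L : X.Modules} (h : NT k L) {Z : Scheme.{u}} (i : Z ⟶ X) [IsClosedImmersion i] [IsIntegral Z]
    (hd : topologicalKrullDim Z = ((1 : ℕ) : WithBot ℕ∞)) : NefQ.Q k [L] (ClSub.quotMod i.ker) = 0 :=
  (num_iff_Q k h.inv).1 h.num Z i hd

theorem Q_structure (F : X.Modules) : NefQ.Q k [Coh.structureModule X] F = 0 := by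
  show (-1 : ℤ) ^ 1 * H28Int.D k [Coh.structureModule X] F = 0
  rw [H28Int.D_cons_structure k (l := []) (by simp), mul_zero]

theorem NT.congr {L M : X.Modules} (h : NT k L) (e : L ≅ M) : NT k M := by
  have hM := H11Tilde.isInvertible_of_iso e h.inv
  refine ⟨hM, (num_iff_Q k hM).2 fun Z i _ _ hd => ?_⟩
  rw [← NefBC.Q_congr k e]
  exact h.Q_eq k i hd

theorem NT.structure_module : NT k (Coh.structureModule X) := by
  have hO : PicF.IsInvertible (Coh.structureModule X) := H11Ample.isInvertible_structureModule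
  exact ⟨hO, (num_iff_Q k hO).2 fun Z i _ _ _ => Q_structure k _⟩

theorem NT.tensor {L M : X.Modules} (h : NT k L) (h' : NT k M) : NT k (CohB1.tensorMod L M) := by
  have hLM := H11Ample.isInvertible_tensor h.inv h'.inv
  refine ⟨hLM, (num_iff_Q k hLM).2 fun Z i _ _ hd => ?_⟩
  haveI := H28Int.isNoetherian k (X := X)
  rw [NefQ.Q_cons_tensor k (l := []) (by simp) h.inv h'.inv (LeadDev.isCoh_push_structure _)
    (NefBC.support_quotMod_ker_le k i hd), h.Q_eq k i hd, h'.Q_eq k i hd, add_zero]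

theorem NT.pow {L : X.Modules} (h : NT k L) : ∀ n : ℕ, NT k (CohB1.tensorPow L n)
  | 0 => NT.structure_module k
  | n + 1 => (NT.pow h n).tensor k h

theorem Q_inverse {L L' : X.Modules} (hL : PicF.IsInvertible L) (hL' : PicF.IsInvertible L')
    (e : CohB1.tensorMod L L' ≅ Coh.structureModule X) {F : X.Modules} (hF : Coh.IsCoh F)
    (hd : topologicalKrullDim (CohB1.support F) ≤ ((1 : ℕ) : WithBot ℕ∞)) :
    NefQ.Q k [L] F + NefQ.Q k [L'] F = 0 := by
  rw [← NefQ.Q_cons_tensor k (l := []) (by simp) hL hL' hF hd, NefBC.Q_congr k e, Q_structure]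

theorem NT.inverse {L L' : X.Modules} (h : NT k L) (e : CohB1.tensorMod L L' ≅ Coh.structureModule X) :
    NT k L' := by
  have hL' := LeadBC.TrivFiber.isInvertible_of_tensor h.inv e
  refine ⟨hL', (num_iff_Q k hL').2 fun Z i _ _ hd => ?_⟩
  haveI := H28Int.isNoetherian k (X := X)
  have := Q_inverse k h.inv hL' e (LeadDev.isCoh_push_structure i.ker.subschemeι)
    (NefBC.support_quotMod_ker_le k i hd)
  have h0 := h.Q_eq k i hd
  change NefQ.Q k [L] (ClSub.quotMod i.ker) + NefQ.Q k [L'] (ClSub.quotMod i.ker) = 0 at this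
  omega

theorem NT.exists_inverse {L : X.Modules} (h : NT k L) :
    ∃ L' : X.Modules, NT k L' ∧ Nonempty (CohB1.tensorMod L L' ≅ Coh.structureModule X) := by
  obtain ⟨L', hL', ⟨e₀⟩⟩ := H11Sym.exists_inverse h.inv
  let e := H10Coh.Tw.commIso L L' ≪≫ e₀
  exact ⟨L', h.inverse k e, ⟨e⟩⟩

theorem NT.nef {L : X.Modules} (h : NT k L) : Kleiman.Nef k L :=
  fun _ i _ _ hd => (h.Q_eq k i hd).ge

theorem nt_of_nef {L L' : X.Modules} (hL : PicF.IsInvertible L)
    (e : CohB1.tensorMod L L' ≅ Coh.structureModule X) (h : Kleiman.Nef k L) (h' : Kleiman.Nef k L') : NT k L := by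
  refine ⟨hL, (num_iff_Q k hL).2 fun Z i _ _ hd => ?_⟩
  haveI := H28Int.isNoetherian k (X := X)
  have := Q_inverse k hL (LeadBC.TrivFiber.isInvertible_of_tensor hL e) e
    (LeadDev.isCoh_push_structure i.ker.subschemeι) (NefBC.support_quotMod_ker_le k i hd)
  have h0 := h Z i hd
  have h1 := h' Z i hd
  change NefQ.Q k [L] (ClSub.quotMod i.ker) + NefQ.Q k [L'] (ClSub.quotMod i.ker) = 0 at this
  omega

theorem NT.pullback {Y : Scheme.{u}} [Y.Over (Spec (CommRingCat.of k))] [IsProper (Y ↘ Spec (CommRingCat.of k))]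
    (f : Y ⟶ X) (hf : f ≫ (X ↘ Spec (CommRingCat.of k)) = Y ↘ Spec (CommRingCat.of k))
    {L : X.Modules} (h : NT k L) : NT k ((Scheme.Modules.pullback f).obj L) := by
  obtain ⟨L', hL', ⟨e⟩⟩ := h.exists_inverse k
  exact nt_of_nef k (isInvertible_pullback f h.inv)
    (((H16Derived.KFlat.Stalk.pullTensorLIso f L').app L).symm ≪≫
      (Scheme.Modules.pullback f).mapIso e ≪≫ H16Derived.KFlat.Stalk.structurePullbackIso f)
    (Kleiman.nef_pullback k f hf h.inv (h.nef k)) (Kleiman.nef_pullback k f hf hL'.inv (hL'.nef k))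

end Groth.Agent.H12Pic.NumTriv
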