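import Groth.Agent.H12Pic.NumTriv.Basic
import Groth.Agent.H12Pic.TwistOn
import Groth.Agent.H12Pic.NegTwistPn
import Groth.Agent.H12Pic.SectionCurve
import Groth.Agent.H25Index.HHIneq

/-!
# Hyperplane sections of integral subschemes, and the absence of sections below
-/

set_option autoImplicit false
set_option linter.style.haveILetI false
set_option linter.unusedSectionVars false
universe u

open CategoryTheory CategoryTheory.Limits AlgebraicGeometry Opposite TopologicalSpace
open Groth.Agent.H11Tilde Groth.Agent.H11Ample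

noncomputable section

namespace Groth.Agent.H12Pic.NumTriv

variable {X : Scheme.{u}} (k : Type u) [Field k] [IsAlgClosed k] [X.Over (Spec (CommRingCat.of k))]
  [IsProper (X ↘ Spec (CommRingCat.of k))]

/-- A nonzero section of a numerically trivial module on an integral scheme generates everywhere. -/
theorem gen_eq_top [IsIntegral X] {L : X.Modules} (h : NT k L) {g : Γ(L, ⊤)} (hg : g ≠ 0) :
    gen L g = ⊤ := by
  haveI := H28Int.isNoetherian k (X := X)
  by_contra htop
  have hne : ((gen L g : Set X)ᶜ).Nonempty := by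
    rw [Set.nonempty_compl]; exact fun h => htop (Opens.ext h)
  obtain ⟨x, hxg, hxc⟩ := (gen L g).isOpen.isClosed_compl.exists_closed_singleton hne
  obtain ⟨w, hwg, hwx, hw⟩ := SectionCurve.exists_curve_through k h.inv g
    (H28Int.Surface.generic_mem_gen h.inv hg) (genericPoint_specializes x) hxc hxg
  let J := Scheme.IdealSheafData.vanishingIdeal (H22Alg.DevLength.cl w)
  haveI : IsIntegral J.subscheme := H22Alg.isIntegral_vanishingIdeal_closure w
  let i := J.subschemeι
  letI : J.subscheme.Over (Spec (CommRingCat.of k)) := ⟨i ≫ (X ↘ Spec (CommRingCat.of k))⟩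
  haveI : IsProper (J.subscheme ↘ Spec (CommRingCat.of k)) :=
    inferInstanceAs (IsProper (i ≫ (X ↘ Spec (CommRingCat.of k))))
  have hJ : topologicalKrullDim J.subscheme = 1 := by
    rw [← hw, i.isClosedEmbedding.isEmbedding.toHomeomorph.isHomeomorph.topologicalKrullDim_eq,
      H17.range_vanishingIdeal_subschemeι]
    rfl
  obtain ⟨t, ht⟩ : w ∈ Set.range i := by
    rw [H17.range_vanishingIdeal_subschemeι]
    exact subset_closure rfl
  let g' := pullTop i g
  have hgen' : gen ((Scheme.Modules.pullback i).obj L) g' = i ⁻¹ᵁ gen L g :=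
    H8Props.ProjOpenAmple.gen_pullTop i (fun y => H11Ample.exists_gen h.inv (i y)) g
  have htg : t ∈ gen ((Scheme.Modules.pullback i).obj L) g' := by
    rw [hgen']
    show i t ∈ gen L g
    rw [ht]; exact hwg
  have hg' : g' ≠ 0 := fun h0 => by
    have hb := (mem_gen_iff (isInvertible_pullback i h.inv) g' t).1 htg
    rw [h0, map_zero] at hb
    exact zero_ne_one (hb.1 (a₁ := (0 : J.subscheme.presheaf.stalk t)) (a₂ := 1) (by simp))
  obtain ⟨y, hy⟩ : x ∈ Set.range i := by
    rw [H17.range_vanishingIdeal_subschemeι]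
    exact hwx.mem_closure
  have hpos := SectionCurve.curveDeg_pos k hJ (isInvertible_pullback i h.inv) hg' (w := y) fun hy' => hxg (by
    rw [hgen'] at hy'; rw [← hy]; exact hy')
  exact absurd (h.num J.subscheme i inferInstance hJ) hpos.ne'

include k in
/-- On an integral scheme of positive dimension an ample module is not trivial. -/
theorem gen_ne_top_of_isAmple [IsIntegral X] {A : X.Modules} (hA : CohB1.IsAmple A) {d : ℕ} (hd0 : 0 < d)
    (hd : topologicalKrullDim X = (d : WithBot ℕ∞)) (g : Γ(A, ⊤)) : gen A g ≠ ⊤ := by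
  intro htop
  haveI := H28Int.isNoetherian k (X := X)
  haveI : IsIso (homOfGlobal A g) := H11Tilde.isIso_homOfGlobal A g fun V => by
    have h := (isGen_gen g).bijective ((le_top : V ≤ ⊤).trans htop.ge)
    simp only [H10Coh.mres_mres] at h
    exact h
  obtain ⟨d, rfl⟩ : ∃ e, d = e + 1 := ⟨d - 1, by omega⟩
  have hl := H22Alg.Nakai.inv_replicate hA.1 d
  have hpos := H22Alg.Nakai.pos_of_isAmple k hA X (𝟙 X) (d + 1) hd0 hd
  rw [List.replicate_succ] at hpos
  have h0 : H28Int.D k (A :: List.replicate d A) (ClSub.quotMod (𝟙 X : X ⟶ X).ker) = 0 := by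
    show H28Int.D k (List.replicate d A) _ - H28Int.D k (List.replicate d A) _ = 0
    rw [(H28Int.isAddFn_D k _ hl).congr (PicGrp.tensorModIso (asIso (homOfGlobal A g)).symm (Iso.refl _) ≪≫
      H10Coh.Tw.leftUnitIso _), sub_self]
  rw [h0, mul_zero] at hpos
  exact lt_irrefl _ hpos

variable {n : ℕ} (i : X ⟶ CohB1.ProjSpace n k) [IsClosedImmersion i]

/-- A linear form not vanishing at a given point. -/
theorem exists_section_gen (x : X) : ∃ g : Γ(TwistOn.O i 1, ⊤), x ∈ gen (TwistOn.O i 1) g := by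
  have hne : NegTwistPn.vanishAt (i x) ≠ ⊤ := fun h => by
    obtain ⟨j, hj⟩ := exists_mem_basicOpen_X (n := n) (R := k) (i x)
    exact hj (NegTwistPn.mem_vanishAt.1 (h.ge (Submodule.mem_top
      (x := (⟨MvPolynomial.X j, MvPolynomial.isHomogeneous_X k j⟩ : NegTwistPn.Forms k n)))))
  obtain ⟨v, -, hv⟩ := SetLike.exists_of_lt (lt_top_iff_ne_top.2 hne)
  refine ⟨pullTop i (NegTwistPn.formSec v), ?_⟩
  rw [H8Props.ProjOpenAmple.gen_pullTop i (fun y => H11Ample.exists_gen
    ((H22Alg.CMField.setup k n).fam.inv 1) (i y))]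
  exact NegTwistPn.mem_gen_formSec hv

/-- Below a numerically trivial module there are no sections. -/
theorem subsingleton_twist_down {Z : Scheme.{u}} (ζ : Z ⟶ X) [IsClosedImmersion ζ] [IsIntegral Z] {d : ℕ}
    (hd0 : 0 < d) (hd : topologicalKrullDim Z = (d : WithBot ℕ∞)) {L : X.Modules} (hL : NT k L) :
    Subsingleton Γ((Scheme.Modules.pullback ζ).obj (CohB1.tensorMod L (TwistOn.O i (-1))), ⊤) := by
  letI : Z.Over (Spec (CommRingCat.of k)) := ⟨ζ ≫ (X ↘ Spec (CommRingCat.of k))⟩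
  haveI : IsProper (Z ↘ Spec (CommRingCat.of k)) := inferInstanceAs (IsProper (ζ ≫ _))
  refine subsingleton_of_forall_eq 0 fun s => ?_
  by_contra hs
  have fam := TwistOn.fam i
  obtain ⟨gX, hgX⟩ := exists_section_gen k i (ζ (genericPoint Z))
  let A := (Scheme.Modules.pullback ζ).obj (TwistOn.O i 1)
  let M := (Scheme.Modules.pullback ζ).obj (CohB1.tensorMod L (TwistOn.O i (-1)))
  have hA : CohB1.IsAmple A := isAmple_pullback_of_isAffineHom ζ (TwistOn.isAmple_one i)
  have hM : PicF.IsInvertible M := isInvertible_pullback ζ (isInvertible_tensor hL.inv (fam.inv (-1)))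
  let g : Γ(A, ⊤) := pullTop ζ gX
  have hg : genericPoint Z ∈ gen A g := by
    rw [H8Props.ProjOpenAmple.gen_pullTop ζ (fun y => H11Ample.exists_gen (fam.inv 1) (ζ y))]
    exact hgX
  obtain ⟨e₁⟩ := exists_iso_pullback_tensor ζ (isInvertible_tensor hL.inv (fam.inv (-1))) (fam.inv 1)
  obtain ⟨e₂⟩ := TwistOn.inv_one i
  let e : CohB1.tensorMod M A ≅ (Scheme.Modules.pullback ζ).obj L :=
    e₁.symm ≪≫ (Scheme.Modules.pullback ζ).mapIso (H10Coh.Tw.assoc _ _ _ ≪≫
      PicGrp.tensorModIso (Iso.refl L) (H10Coh.Tw.commIso _ _ ≪≫ e₂) ≪≫ H10Coh.Tw.rightUnitIso L)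
  have hgen : gen ((Scheme.Modules.pullback ζ).obj L) (e.hom.app ⊤ (tm s g)) = gen M s ⊓ gen A g := by
    rw [gen_iso, gen_tm hM hA.1]
  have hη : genericPoint Z ∈ gen ((Scheme.Modules.pullback ζ).obj L) (e.hom.app ⊤ (tm s g)) := by
    rw [hgen]
    exact ⟨H28Int.Surface.generic_mem_gen hM hs, hg⟩
  have hNT := hL.pullback k ζ rfl
  have hne : e.hom.app ⊤ (tm s g) ≠ 0 := fun h0 => by
    have hb := (mem_gen_iff hNT.inv _ (genericPoint Z)).1 hη
    rw [h0, map_zero] at hb
    exact zero_ne_one (hb.1 (a₁ := (0 : Z.presheaf.stalk (genericPoint Z))) (a₂ := 1) (by simp))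
  refine gen_ne_top_of_isAmple k hA hd0 hd g (top_unique ?_)
  rw [← gen_eq_top k hNT hne, hgen]
  exact inf_le_right

/-- A hyperplane section of the direct image of an ideal of an integral closed subscheme. -/
theorem exists_seq {Z : Scheme.{u}} (ζ : Z ⟶ X) [IsClosedImmersion ζ] [IsIntegral Z] {r : ℕ}
    (hd : topologicalKrullDim (Set.range ζ) ≤ (r : WithBot ℕ∞)) {F : X.Modules} (hF : Coh.IsCoh F)
    (hsupp : CohB1.support F ⊆ Set.range ζ)
    (f : F ⟶ (Coh.push ζ).obj (Coh.structureModule Z)) [Mono f] :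
    ∃ (G : X.Modules) (a : CohB1.tensorMod F (TwistOn.O i (-1)) ⟶ F) (b : F ⟶ G) (w : a ≫ b = 0),
      (ShortComplex.mk a b w).ShortExact ∧ Coh.IsCoh G ∧
      topologicalKrullDim (CohB1.support G) < (r : WithBot ℕ∞) := by
  haveI := H28Int.isNoetherian k (X := X)
  have fam := TwistOn.fam i
  let ξ := ζ (genericPoint Z)
  obtain ⟨gX, hgX⟩ := exists_section_gen k i ξ
  let φ := H25Euler.mulHom F (homOfGlobal (TwistOn.O i 1) gX)
  have hiso : ∀ x ∈ gen (TwistOn.O i 1) gX, IsIso ((DerSch.stalkFunctor X x).map φ) := fun x hx =>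
    H25Euler.isIso_stalk_mulHom F _ hx
  have hF1 : Coh.IsCoh (CohB1.tensorMod F (TwistOn.O i 1)) := H11Ample.isCoh_tensor hF (fam.inv 1)
  have hker : IsZero (kernel φ) :=
    H28Int.isZero_of_mono_push ζ (kernel.ι φ ≫ f)
      (H25Euler.notMem_support_kernel_cokernel φ (hiso ξ hgX)).1
  haveI : Mono φ := Preadditive.mono_of_isZero_kernel φ hker
  let C := cokernel φ
  have hC : Coh.IsCoh C := H10Coh.isCoh_cokernel φ hF.1 hF1
  have hS : (ShortComplex.mk φ (cokernel.π φ) (cokernel.condition φ)).ShortExact :=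
    ShortComplex.ShortExact.mk' (ShortComplex.exact_cokernel φ) inferInstance inferInstance
  have hT := H10Coh.Tw.shortExact_seq hS (fam.inv (-1))
  obtain ⟨e₂⟩ := TwistOn.inv_one i
  let e : CohB1.tensorMod (CohB1.tensorMod F (TwistOn.O i 1)) (TwistOn.O i (-1)) ≅ F :=
    H10Coh.Tw.assoc _ _ _ ≪≫ PicGrp.tensorModIso (Iso.refl F) e₂ ≪≫ H10Coh.Tw.rightUnitIso F
  let T := H10Coh.Tw.seq (ShortComplex.mk φ (cokernel.π φ) (cokernel.condition φ)) (fam.inv (-1))
  refine ⟨CohB1.tensorMod C (TwistOn.O i (-1)), T.f ≫ e.hom, e.inv ≫ T.g,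
    (Category.assoc _ _ _).trans ((congrArg (T.f ≫ ·) (e.hom_inv_id_assoc T.g)).trans T.zero), ?_, H11Ample.isCoh_tensor hC (fam.inv (-1)), ?_⟩
  · refine ShortComplex.shortExact_of_iso (ShortComplex.isoMk (S₁ := T) (Iso.refl _) e (Iso.refl _) ?_ ?_) hT
    · show 𝟙 _ ≫ T.f ≫ e.hom = T.f ≫ e.hom
      rw [Category.id_comp]
    · show e.hom ≫ e.inv ≫ T.g = T.g ≫ 𝟙 _
      rw [Iso.hom_inv_id_assoc, Category.comp_id]
  refine lt_of_le_of_lt (H28Int.dim_le_of_subset (H25Euler.support_tensor_subset C _)) ?_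
  refine H28Int.dim_lt_of_notMem (LeadDev.range_eq_closure ζ (ξ := ξ) rfl).symm hd
    (H10Coh.isClosed_support _ hC.2) (fun x hx => hsupp ?_)
    (H25Euler.notMem_support_kernel_cokernel φ (hiso ξ hgX)).2
  exact H25Euler.support_tensor_subset F _ (LeadDev.support_subset_of_epi (cokernel.π φ) hx)

end Groth.Agent.H12Pic.NumTriv
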