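import Groth.Agent.H12Pic.NumTriv.Hyperplane
import Groth.Agent.H10Coh.Pn.Results
import Groth.Agent.S12111
import Groth.Agent.S12112

/-!
# Uniform regularity of the numerically trivial twists of a coherent module

For a coherent module `F` on a closed subscheme of projective space, with support of dimension `≤ r`,
the twists `F ⊗ L` by numerically trivial invertible modules `L` have at most `B·C(m+r, r)` sections
in degree `m`, are uniformly regular, and have the Euler characteristic of `F`.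
-/

set_option autoImplicit false
set_option linter.style.haveILetI false
set_option linter.unusedSectionVars false
universe u

open CategoryTheory CategoryTheory.Limits AlgebraicGeometry Opposite TopologicalSpace
open Groth.Agent.H25Index

noncomputable section

namespace Groth.Agent.H12Pic.NumTriv

variable {X : Scheme.{u}} (k : Type u) [Field k] [X.Over (Spec (CommRingCat.of k))]
  [IsProper (X ↘ Spec (CommRingCat.of k))]

theorem hd_zero_of_isZero {M : X.Modules} (hM : IsZero M) (n : ℕ) : hd k M n = 0 := by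
  haveI : Subsingleton (Coh.HH X M n) := subsingleton_of_forall_eq 0 fun x => by
    rw [← H29RR.hhlin_id (k := k) M n x, hM.eq_of_src (𝟙 M) 0, H29RR.hhlin_zero]
  exact Module.finrank_zero_of_subsingleton

theorem subsingleton_of_hd_zero {M : X.Modules} (hM : Coh.IsCoh M) {n : ℕ} (h : hd k M n = 0) :
    Subsingleton (Coh.HH X M n) :=
  haveI := finite_HH (k := k) M hM n
  Module.finrank_zero_iff.1 h

include k in
theorem isSeparated : X.IsSeparated := Scheme.IsSeparated.mk (by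
  rw [← terminal.comp_from (X ↘ Spec (CommRingCat.of k))]; infer_instance)

theorem hd_of_dim {M : X.Modules} (hM : Coh.IsCoh M) {d : ℕ}
    (hd' : topologicalKrullDim (CohB1.support M) ≤ (d : WithBot ℕ∞)) {p : ℕ} (hp : d < p) : hd k M p = 0 := by
  haveI := H28Int.isNoetherian k (X := X)
  haveI := isSeparated k (X := X)
  haveI := H28Int.subsingleton_HnM_of_support ⟨_, H10Coh.isClosed_support M hM.2⟩ d hd' M hM.1 le_rfl p hp
  haveI : Subsingleton (Coh.HH X M p) := (H10Coh.HHEquiv M p).toEquiv.subsingleton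
  exact Module.finrank_zero_of_subsingleton

/-- The Euler characteristic of a module with cohomology in degrees `≤ 1` only. -/
theorem euler_eq_sub {M : X.Modules} (h : ∀ p, 2 ≤ p → Subsingleton (Coh.HH X M p)) :
    Curv2.euler k X M = (hd k M 0 : ℤ) - hd k M 1 := by
  rw [H25Euler.euler_eq_sum M 2 h]
  simp [Finset.sum_range_succ, hd]
  ring

theorem euler_eq_hd {M : X.Modules} (hM : Coh.IsCoh M)
    (hd' : topologicalKrullDim (CohB1.support M) ≤ ((0 : ℕ) : WithBot ℕ∞)) : Curv2.euler k X M = hd k M 0 := by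
  rw [euler_eq_sub k fun p hp => subsingleton_of_hd_zero k hM (hd_of_dim k hM hd' (by omega)),
    hd_of_dim k hM hd' one_pos]
  simp

omit [IsProper (X ↘ Spec (CommRingCat.of k))] [X.Over (Spec (CommRingCat.of k))] in
theorem isZero_tensor {M : X.Modules} (hM : IsZero M) (L : X.Modules) : IsZero (CohB1.tensorMod M L) :=
  ((DCoh.tensorBi (X := X)).flip.obj L).map_isZero hM

/-- `(A ⊗ B) ⊗ C ≅ (A ⊗ C) ⊗ B`. -/
def swapIso (A B C : X.Modules) :
    CohB1.tensorMod (CohB1.tensorMod A B) C ≅ CohB1.tensorMod (CohB1.tensorMod A C) B :=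
  H10Coh.Tw.assoc A B C ≪≫ PicGrp.tensorModIso (Iso.refl A) (H10Coh.Tw.commIso B C) ≪≫
    (H10Coh.Tw.assoc A C B).symm

variable {n : ℕ} (i : X ⟶ CohB1.ProjSpace n k) [IsClosedImmersion i]

/-- The three uniform properties of the numerically trivial twists of `F`. -/
structure Good (r : ℕ) (F : X.Modules) : Prop where
  h0 : ∃ B : ℕ, ∀ L : X.Modules, NT k L → ∀ m : ℕ,
    hd k (Pic13.twistOn k i (CohB1.tensorMod F L) (m : ℤ)) 0 ≤ B * (m + r).choose r
  reg : ∃ m₀ : ℕ, ∀ L : X.Modules, NT k L → Pic13.IsMRegular k i (CohB1.tensorMod F L) (m₀ : ℤ)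
  chi : ∀ L : X.Modules, NT k L → Curv2.euler k X (CohB1.tensorMod F L) = Curv2.euler k X F

omit [IsClosedImmersion i] in
theorem isCoh_tw {F L : X.Modules} (hF : Coh.IsCoh F) (hL : PicF.IsInvertible L) (d : ℤ) :
    Coh.IsCoh (Pic13.twistOn k i (CohB1.tensorMod F L) d) :=
  H11Ample.isCoh_tensor (H11Ample.isCoh_tensor hF hL) ((TwistOn.fam i).inv d)

theorem Good.congr {r : ℕ} {F G : X.Modules} (h : Good k i r F) (e : F ≅ G) : Good k i r G := by
  have e' : ∀ (L : X.Modules) (d : ℤ),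
      Pic13.twistOn k i (CohB1.tensorMod F L) d ≅ Pic13.twistOn k i (CohB1.tensorMod G L) d :=
    fun L d => PicGrp.tensorModIso (PicGrp.tensorModIso e (Iso.refl L)) (Iso.refl _)
  obtain ⟨B, hB⟩ := h.h0
  obtain ⟨m, hm⟩ := h.reg
  refine ⟨⟨B, fun L hL j => (hd_congr (e' L _) 0).ge.trans (hB L hL j)⟩, ⟨m, fun L hL q hq => ?_⟩, fun L hL => ?_⟩
  · haveI := hm L hL q hq
    exact subsingleton_of_forall_eq 0 fun x => by
      rw [← H29RR.hhlin_id (k := k) _ q x, ← (e' L _).inv_hom_id, H29RR.hhlin_comp,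
        Subsingleton.elim (Canon.HHlin k (e' L _).inv q x) 0, map_zero]
  · rw [← H25Euler.euler_congr (PicGrp.tensorModIso e (Iso.refl L)), h.chi L hL, H25Euler.euler_congr e]

theorem Good.of_isZero (r : ℕ) {F : X.Modules} (hF : IsZero F) : Good k i r F := by
  haveI := H28Int.isNoetherian k (X := X)
  have hz : ∀ L, IsZero (CohB1.tensorMod F L) := isZero_tensor hF
  have hc : ∀ L d, Coh.IsCoh (Pic13.twistOn k i (CohB1.tensorMod F L) d) := fun L d =>
    LeadDev.isCoh_of_isZero (isZero_tensor (hz L) _)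
  refine ⟨⟨0, fun L _ j => (hd_zero_of_isZero k (isZero_tensor (hz L) _) 0).le.trans (Nat.zero_le _)⟩,
    ⟨0, fun L _ q _ => subsingleton_of_hd_zero k (hc L _) (hd_zero_of_isZero k (isZero_tensor (hz L) _) q)⟩,
    fun L _ => ?_⟩
  rw [(H28Int.isAddFn_euler k).zero (hz L), (H28Int.isAddFn_euler k).zero hF]

theorem Good.mono {r : ℕ} {F : X.Modules} (h : Good k i r F) {s : ℕ} (hs : r ≤ s) : Good k i s F := by
  induction hs with
  | refl => exact h
  | @step s _ ih =>
    obtain ⟨B, hB⟩ := ih.h0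
    refine ⟨⟨B, fun L hL j => (hB L hL j).trans (Nat.mul_le_mul_left B ?_)⟩, ih.reg, ih.chi⟩
    show (j + s).choose s ≤ (j + s + 1).choose (s + 1)
    rw [Nat.choose_succ_succ]
    exact Nat.le_add_right _ _

/-- Regularity increases. -/
theorem regular_mono [IsAlgClosed k] {F : X.Modules} (hF : Coh.IsCoh F) {a b : ℤ} (hab : a ≤ b)
    (h : Pic13.IsMRegular k i F a) : Pic13.IsMRegular k i F b :=
  (S12111.result k n i F hF a h b hab).1

theorem Good.ext [IsAlgClosed k] {r : ℕ} {S : ShortComplex X.Modules} (hS : S.ShortExact) (h₁ : Coh.IsCoh S.X₁)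
    (h₂ : Coh.IsCoh S.X₂) (h₃ : Coh.IsCoh S.X₃) (g₁ : Good k i r S.X₁) (g₃ : Good k i r S.X₃) :
    Good k i r S.X₂ := by
  have hT : ∀ {L : X.Modules} (hL : PicF.IsInvertible L) (d : ℤ) (p : ℕ),
      hd k (Pic13.twistOn k i (CohB1.tensorMod S.X₂ L) d) p ≤
        hd k (Pic13.twistOn k i (CohB1.tensorMod S.X₁ L) d) p +
          hd k (Pic13.twistOn k i (CohB1.tensorMod S.X₃ L) d) p := fun {L} hL d p =>
    (hd_shortExact (k := k) (H28Int.tensor_shortExact (H28Int.tensor_shortExact hS hL) ((TwistOn.fam i).inv d))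
      (isCoh_tw k i h₁ hL d) (isCoh_tw k i h₂ hL d) (isCoh_tw k i h₃ hL d) p).1
  obtain ⟨B₁, hB₁⟩ := g₁.h0
  obtain ⟨B₃, hB₃⟩ := g₃.h0
  obtain ⟨a, ha⟩ := g₁.reg
  obtain ⟨b, hb⟩ := g₃.reg
  refine ⟨⟨B₁ + B₃, fun L hL j => ?_⟩, ⟨max a b, fun L hL q hq => ?_⟩, fun L hL => ?_⟩
  · rw [Nat.add_mul]
    exact (hT hL.inv _ 0).trans (Nat.add_le_add (hB₁ L hL j) (hB₃ L hL j))
  · refine subsingleton_of_hd_zero k (isCoh_tw k i h₂ hL.inv _) (Nat.eq_zero_of_le_zero ?_)
    haveI h1 := regular_mono k i (H11Ample.isCoh_tensor h₁ hL.inv) (b := ((max a b : ℕ) : ℤ)) (by omega)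
      (ha L hL) q hq
    haveI h3 := regular_mono k i (H11Ample.isCoh_tensor h₃ hL.inv) (b := ((max a b : ℕ) : ℤ)) (by omega)
      (hb L hL) q hq
    refine (hT hL.inv _ q).trans (le_of_eq ?_)
    simp [hd, Module.finrank_zero_of_subsingleton]
  · haveI := H28Int.isNoetherian k (X := X)
    have e := ((H28Int.isAddFn_euler k).twist hL.inv).add S hS h₁ h₂ h₃
    beta_reduce at e
    rw [H25Euler.euler_congr (H10Coh.Tw.commIso L S.X₁), H25Euler.euler_congr (H10Coh.Tw.commIso L S.X₂),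
      H25Euler.euler_congr (H10Coh.Tw.commIso L S.X₃)] at e
    rw [e, g₁.chi L hL, g₃.chi L hL, H25Euler.euler_add hS h₁ h₂ h₃]

theorem good_zero {F : X.Modules} (hF : Coh.IsCoh F)
    (hd' : topologicalKrullDim (CohB1.support F) ≤ ((0 : ℕ) : WithBot ℕ∞)) : Good k i 0 F := by
  haveI := H28Int.isNoetherian k (X := X)
  have hs : ∀ {L : X.Modules} (_ : PicF.IsInvertible L) (d : ℤ),
      topologicalKrullDim (CohB1.support (Pic13.twistOn k i (CohB1.tensorMod F L) d)) ≤ ((0 : ℕ) : WithBot ℕ∞) :=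
    fun _ _ => (H28Int.dim_le_of_subset ((H25Euler.support_tensor_subset _ _).trans
      (H25Euler.support_tensor_subset _ _))).trans hd'
  have hE : ∀ {M G : X.Modules}, PicF.IsInvertible M → Coh.IsCoh G →
      topologicalKrullDim (CohB1.support G) ≤ ((0 : ℕ) : WithBot ℕ∞) →
      Curv2.euler k X (CohB1.tensorMod G M) = Curv2.euler k X G := fun {M G} hM hG hd0 =>
    (H25Euler.euler_congr (H10Coh.Tw.commIso G M)).trans
      (H28Int.D_twist k (l := []) (by simp) hM hG (by simpa using hd0))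
  refine ⟨⟨hd k F 0, fun L hL j => ?_⟩, ⟨0, fun L hL q hq => ?_⟩, fun L hL => hE hL.inv hF hd'⟩
  · have h := euler_eq_hd k (isCoh_tw k i hF hL.inv _) (hs hL.inv (j : ℤ))
    rw [show Curv2.euler k X (Pic13.twistOn k i (CohB1.tensorMod F L) (j : ℤ)) = Curv2.euler k X F from
      (hE ((TwistOn.fam i).inv _) (H11Ample.isCoh_tensor hF hL.inv)
        ((H28Int.dim_le_of_subset (H25Euler.support_tensor_subset _ _)).trans hd')).trans (hE hL.inv hF hd'),
      euler_eq_hd k hF hd'] at h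
    simp only [Nat.add_zero, Nat.choose_zero_right, Nat.mul_one]
    exact le_of_eq (by exact_mod_cast h.symm)
  · exact subsingleton_of_hd_zero k (isCoh_tw k i hF hL.inv _)
      (hd_of_dim k (isCoh_tw k i hF hL.inv _) (hs hL.inv _) hq)

theorem hd0_eq_zero {M : X.Modules} (h : Subsingleton Γ(M, ⊤)) : hd k M 0 = 0 := by
  haveI := h
  haveI : Subsingleton (Coh.HH X M 0) := (H10Coh.HH0Equiv M).toEquiv.subsingleton
  exact Module.finrank_zero_of_subsingleton

theorem lt_succ_iff' (a : WithBot ℕ∞) (r : ℕ) : a < ((r + 1 : ℕ) : WithBot ℕ∞) ↔ a ≤ (r : WithBot ℕ∞) := by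
  induction a using WithBot.recBotCoe with
  | bot => exact ⟨fun _ => bot_le, fun _ => WithBot.bot_lt_coe _⟩
  | coe a =>
    induction a using ENat.recTopCoe with
    | top => norm_cast; simp
    | coe e => norm_cast; omega

theorem eq_succ_dim {d : WithBot ℕ∞} {r : ℕ} (h : d ≤ ((r + 1 : ℕ) : WithBot ℕ∞))
    (h' : ¬ d ≤ (r : WithBot ℕ∞)) : d = ((r + 1 : ℕ) : WithBot ℕ∞) := by
  induction d using WithBot.recBotCoe with
  | bot => exact absurd bot_le h'
  | coe d =>
    induction d using ENat.recTopCoe with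
    | top => exact absurd (WithBot.coe_le_coe.1 h) (by simp)
    | coe e =>
      norm_cast at h h' ⊢
      omega

omit [IsProper (X ↘ Spec (CommRingCat.of k))] [X.Over (Spec (CommRingCat.of k))] in
theorem exists_mono_tensor {F G : X.Modules} (f : F ⟶ G) [Mono f] {L : X.Modules} (hL : PicF.IsInvertible L) :
    ∃ g : CohB1.tensorMod F L ⟶ CohB1.tensorMod G L, Mono g := by
  let S := ShortComplex.mk f (cokernel.π f) (cokernel.condition f)
  have hS : S.ShortExact :=
    ShortComplex.ShortExact.mk' (ShortComplex.exact_cokernel f) inferInstance inferInstance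
  exact ⟨((DCoh.tensorBi (X := X)).flip.obj L).map f, (H28Int.tensor_shortExact hS hL).mono_f⟩

omit [IsClosedImmersion i] in
/-- A hyperplane sequence stays one after tensoring with an invertible module. -/
theorem exists_seq_tensor {A G : X.Modules} (a : CohB1.tensorMod A (TwistOn.O i (-1)) ⟶ A) (b : A ⟶ G)
    (w : a ≫ b = 0) (hS : (ShortComplex.mk a b w).ShortExact) {L : X.Modules} (hL : PicF.IsInvertible L) :
    ∃ (f' : Pic13.twistOn k i (CohB1.tensorMod A L) (-1) ⟶ CohB1.tensorMod A L)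
      (g' : CohB1.tensorMod A L ⟶ CohB1.tensorMod G L) (w' : f' ≫ g' = 0),
      (ShortComplex.mk f' g' w').ShortExact := by
  let T := (ShortComplex.mk a b w).map ((DCoh.tensorBi (X := X)).flip.obj L)
  have hT : T.ShortExact := H28Int.tensor_shortExact hS hL
  let e : Pic13.twistOn k i (CohB1.tensorMod A L) (-1) ≅ T.X₁ := swapIso A L (TwistOn.O i (-1))
  refine ⟨e.hom ≫ T.f, T.g, (Category.assoc _ _ _).trans ((congrArg (e.hom ≫ ·) T.zero).trans comp_zero), ?_⟩
  refine ShortComplex.shortExact_of_iso (ShortComplex.isoMk (S₁ := T) e.symm (Iso.refl _) (Iso.refl _) ?_ ?_) hT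
  · show e.inv ≫ e.hom ≫ T.f = T.f ≫ 𝟙 _
    rw [Iso.inv_hom_id_assoc, Category.comp_id]
  · show 𝟙 _ ≫ T.g = T.g ≫ 𝟙 _
    rw [Category.id_comp, Category.comp_id]

omit [IsClosedImmersion i] in
/-- One step up along a hyperplane sequence. -/
theorem hd0_step {F G : X.Modules} (hF : Coh.IsCoh F) (hG : Coh.IsCoh G)
    (h : ∃ (f : Pic13.twistOn k i F (-1) ⟶ F) (g : F ⟶ G) (w : f ≫ g = 0), (ShortComplex.mk f g w).ShortExact)
    (d : ℤ) :
    hd k (Pic13.twistOn k i F d) 0 ≤ hd k (Pic13.twistOn k i F (d - 1)) 0 + hd k (Pic13.twistOn k i G d) 0 := by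
  obtain ⟨f, g, w, hS⟩ := h
  have fam := TwistOn.fam i
  obtain ⟨z⟩ := fam.add (-1) d
  let T := (ShortComplex.mk f g w).map ((DCoh.tensorBi (X := X)).flip.obj (TwistOn.O i d))
  have hT : T.ShortExact := H28Int.tensor_shortExact hS (fam.inv d)
  let e : T.X₁ ≅ Pic13.twistOn k i F (d - 1) :=
    H10Coh.Tw.assoc F (TwistOn.O i (-1)) (TwistOn.O i d) ≪≫
      PicGrp.tensorModIso (Iso.refl F) (z ≪≫ eqToIso (congrArg (TwistOn.O i) (by ring)))
  have h₁ : Coh.IsCoh T.X₁ := H10Coh.isCoh_of_iso e.symm (H11Ample.isCoh_tensor hF (fam.inv (d - 1)))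
  have h := (hd_shortExact (k := k) hT h₁ (H11Ample.isCoh_tensor hF (fam.inv d))
    (H11Ample.isCoh_tensor hG (fam.inv d)) 0).1
  rw [hd_congr e 0] at h
  exact h

/-- No sections of a numerically trivial twist in degree `-1`. -/
theorem hd0_below [IsAlgClosed k] {Z : Scheme.{u}} (ζ : Z ⟶ X) [IsClosedImmersion ζ] [IsIntegral Z] {d : ℕ}
    (hd0 : 0 < d) (hd : topologicalKrullDim Z = (d : WithBot ℕ∞)) {A : X.Modules}
    (f : A ⟶ (Coh.push ζ).obj (Coh.structureModule Z)) [Mono f] {L : X.Modules} (hL : NT k L) :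
    H25Index.hd k (Pic13.twistOn k i (CohB1.tensorMod A L) (-1)) 0 = 0 := by
  have hm1 := (TwistOn.fam i).inv (-1)
  let N := CohB1.tensorMod L (TwistOn.O i (-1))
  let P := (Coh.push ζ).obj (Coh.structureModule Z)
  obtain ⟨e₁⟩ := H10Coh.Tw.nonempty_push_tensor_iso ζ (Coh.structureModule Z)
    (N := N) (H11Ample.isInvertible_tensor hL.inv hm1)
  let e : Pic13.twistOn k i (CohB1.tensorMod P L) (-1) ≅
      (Coh.push ζ).obj ((Scheme.Modules.pullback ζ).obj N) :=
    H10Coh.Tw.assoc P L (TwistOn.O i (-1)) ≪≫ e₁ ≪≫ (Coh.push ζ).mapIso (H10Coh.Tw.leftUnitIso _)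
  haveI := subsingleton_twist_down k i ζ hd0 hd hL
  haveI : Subsingleton Γ(Pic13.twistOn k i (CohB1.tensorMod P L) (-1), ⊤) :=
    subsingleton_of_forall_eq 0 fun s => by
      have h0 : e.hom.app ⊤ s = 0 :=
        Subsingleton.elim (α := Γ((Scheme.Modules.pullback ζ).obj N, ⊤)) _ _
      rw [← H22Alg.CMField.inv_hom_apply e ⊤ s, h0, map_zero]
  haveI : Subsingleton (Coh.HH X (Pic13.twistOn k i (CohB1.tensorMod P L) (-1)) 0) :=
    (H10Coh.HH0Equiv _).toEquiv.subsingleton
  obtain ⟨g, hg⟩ := exists_mono_tensor f hL.inv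
  haveI := hg
  obtain ⟨ν, hν⟩ : ∃ ν : Pic13.twistOn k i (CohB1.tensorMod A L) (-1) ⟶
      Pic13.twistOn k i (CohB1.tensorMod P L) (-1), Mono ν := exists_mono_tensor g hm1
  haveI := hν
  haveI : Subsingleton (Coh.HH X (Pic13.twistOn k i (CohB1.tensorMod A L) (-1)) 0) :=
    (H29RR.hhlin_zero_injective (k := k) ν).subsingleton
  exact Module.finrank_zero_of_subsingleton

variable [IsAlgClosed k] (hi : i ≫ CohB1.ProjSpace.toSpec n k = X ↘ Spec (CommRingCat.of k))
include hi

theorem good_integral {r : ℕ}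
    (ih : ∀ G : X.Modules, Coh.IsCoh G → topologicalKrullDim (CohB1.support G) ≤ (r : WithBot ℕ∞) → Good k i r G)
    {Z : Scheme.{u}} (ζ : Z ⟶ X) [IsClosedImmersion ζ] [IsIntegral Z]
    (hZ : topologicalKrullDim (Set.range ζ) = ((r + 1 : ℕ) : WithBot ℕ∞))
    {A : X.Modules} (hA : Coh.IsCoh A) (hsupp : CohB1.support A ⊆ Set.range ζ)
    (f : A ⟶ (Coh.push ζ).obj (Coh.structureModule Z)) [Mono f] : Good k i (r + 1) A := by
  haveI := H28Int.isNoetherian k (X := X)
  have fam := TwistOn.fam i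
  have hZd : topologicalKrullDim Z = ((r + 1 : ℕ) : WithBot ℕ∞) := by
    rw [ζ.isClosedEmbedding.isEmbedding.toHomeomorph.isHomeomorph.topologicalKrullDim_eq]
    exact hZ
  obtain ⟨G, a, b, w, hS, hG, hGd⟩ := exists_seq k i ζ hZ.le hA hsupp f
  have hGr : topologicalKrullDim (CohB1.support G) ≤ (r : WithBot ℕ∞) :=
    (lt_succ_iff' _ r).1 hGd
  have gG := ih G hG hGr
  obtain ⟨B, hB⟩ := gG.h0
  obtain ⟨m', hm'⟩ := gG.reg
  let m : ℕ := max m' 1
  have hGm : ∀ L, NT k L → Pic13.IsMRegular k i (CohB1.tensorMod G L) (m : ℤ) := fun L hL =>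
    regular_mono k i (H11Ample.isCoh_tensor hG hL.inv) (by omega) (hm' L hL)
  let M := fun L : X.Modules => CohB1.tensorMod A L
  have hM : ∀ {L : X.Modules}, PicF.IsInvertible L → Coh.IsCoh (M L) := fun hL => H11Ample.isCoh_tensor hA hL
  have seq : ∀ {L : X.Modules} (_ : PicF.IsInvertible L),
      ∃ (f' : Pic13.twistOn k i (M L) (-1) ⟶ M L) (g' : M L ⟶ CohB1.tensorMod G L) (w' : f' ≫ g' = 0),
        (ShortComplex.mk f' g' w').ShortExact := fun hL => exists_seq_tensor k i a b w hS hL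
  have bnd : ∀ {L : X.Modules} (_ : PicF.IsInvertible L) (d : ℤ),
      hd k (Pic13.twistOn k i (M L) d) 0 ≤ hd k (Pic13.twistOn k i (M L) (d - 1)) 0 +
        hd k (Pic13.twistOn k i (CohB1.tensorMod G L) d) 0 := fun hL d =>
    hd0_step k i (hM hL) (H11Ample.isCoh_tensor hG hL) (seq hL) d
  have below : ∀ {L : X.Modules}, NT k L → hd k (Pic13.twistOn k i (M L) (-1)) 0 = 0 := fun hL =>
    hd0_below k i ζ (d := r + 1) (Nat.succ_pos r) hZd f hL
  have h0 : ∀ L, NT k L → ∀ j : ℕ, hd k (Pic13.twistOn k i (M L) (j : ℤ)) 0 ≤ B * (j + (r + 1)).choose (r + 1) := by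
    intro L hL j
    induction j with
    | zero =>
      refine (bnd hL.inv _).trans ?_
      rw [show ((0 : ℕ) : ℤ) - 1 = -1 by simp, below hL, zero_add]
      exact (hB L hL 0).trans (by simp)
    | succ j ihj =>
      refine (bnd hL.inv _).trans ?_
      rw [show ((j + 1 : ℕ) : ℤ) - 1 = (j : ℤ) by push_cast; ring]
      refine (Nat.add_le_add ihj (hB L hL (j + 1))).trans (le_of_eq ?_)
      rw [show j + 1 + (r + 1) = (j + 1 + r) + 1 by omega, Nat.choose_succ_succ,
        show j + (r + 1) = j + 1 + r by omega, Nat.mul_add, Nat.add_comm]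
  have van : ∀ L, NT k L → ∀ (q : ℕ), 2 ≤ q → ∀ d : ℤ, (m : ℤ) - 1 ≤ d →
      Subsingleton (Coh.HH X (Pic13.twistOn k i (M L) d) q) := by
    intro L hL q hq d hd'
    obtain ⟨f', g', w', hS'⟩ := seq hL.inv
    exact (S12112.result k n X i hi (M L) _ (hM hL.inv) (H11Ample.isCoh_tensor hG hL.inv) f' g' w' hS' m
      (hGm L hL)).1 q d hq (by omega)
  have hEuler : ∀ L, NT k L → ∀ d : ℤ, (m : ℤ) - 1 ≤ d →
      Curv2.euler k X (Pic13.twistOn k i (M L) d) =
        (hd k (Pic13.twistOn k i (M L) d) 0 : ℤ) - hd k (Pic13.twistOn k i (M L) d) 1 := fun L hL d hd' =>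
    euler_eq_sub k fun p hp => van L hL p hp d hd'
  -- the Euler characteristic does not see the twist
  let ψ := fun (L : X.Modules) (F : X.Modules) => Curv2.euler k X (CohB1.tensorMod L F) - Curv2.euler k X F
  have hψ : ∀ {L : X.Modules}, PicF.IsInvertible L → H28Int.IsAddFn (ψ L) := fun hL =>
    ((H28Int.isAddFn_euler k).twist hL).sub (H28Int.isAddFn_euler k)
  have hψ0 : ∀ {L : X.Modules}, NT k L → ∀ F, Coh.IsCoh F →
      topologicalKrullDim (CohB1.support F) < ((r + 1 : ℕ) : WithBot ℕ∞) → ψ L F = 0 := by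
    intro L hL F hF hFd
    have h := (ih F hF ((lt_succ_iff' _ r).1 hFd)).chi L hL
    show Curv2.euler k X (CohB1.tensorMod L F) - Curv2.euler k X F = 0
    rw [H25Euler.euler_congr (H10Coh.Tw.commIso L F), h, sub_self]
  have hAd : topologicalKrullDim (CohB1.support A) ≤ ((r + 1 : ℕ) : WithBot ℕ∞) :=
    (H28Int.dim_le_of_subset hsupp).trans hZ.le
  -- `χ(A ⊗ N ⊗ L) = χ(A ⊗ N) + ψ_L(A)`
  have step : ∀ {L N : X.Modules}, NT k L → PicF.IsInvertible N →
      Curv2.euler k X (CohB1.tensorMod (CohB1.tensorMod A N) L) =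
        Curv2.euler k X (CohB1.tensorMod A N) + ψ L A := by
    intro L N hL hN
    have h : ψ L (CohB1.tensorMod N A) = ψ L A := (hψ hL.inv).twist_eq (hψ0 hL) hN hA hAd
    rw [(hψ hL.inv).congr (H10Coh.Tw.commIso N A)] at h
    change Curv2.euler k X (CohB1.tensorMod L (CohB1.tensorMod A N)) - Curv2.euler k X (CohB1.tensorMod A N) = ψ L A at h
    rw [H25Euler.euler_congr (H10Coh.Tw.commIso L (CohB1.tensorMod A N))] at h
    omega
  have lin : ∀ {L : X.Modules}, NT k L → ∀ (d : ℤ) (j : ℕ),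
      Curv2.euler k X (Pic13.twistOn k i (M (CohB1.tensorPow L j)) d) =
        Curv2.euler k X (Pic13.twistOn k i A d) + j * ψ L A := by
    intro L hL d j
    induction j with
    | zero =>
      rw [Nat.cast_zero, zero_mul, add_zero]
      exact H25Euler.euler_congr (PicGrp.tensorModIso (H10Coh.Tw.rightUnitIso A) (Iso.refl _))
    | succ j ihj =>
      let N := CohB1.tensorMod (CohB1.tensorPow L j) (TwistOn.O i d)
      have h := step (N := N) hL (H11Ample.isInvertible_tensor (hL.pow k j).inv (fam.inv d))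
      rw [← H25Euler.euler_congr (H10Coh.Tw.assoc A (CohB1.tensorPow L j) (TwistOn.O i d))] at h
      change _ = Curv2.euler k X (Pic13.twistOn k i (M (CohB1.tensorPow L j)) d) + _ at h
      rw [ihj] at h
      refine Eq.trans ?_ (h.trans (by push_cast; ring))
      exact H25Euler.euler_congr (PicGrp.tensorModIso (H10Coh.Tw.assoc _ _ _).symm (Iso.refl _) ≪≫
        swapIso _ L _ ≪≫ PicGrp.tensorModIso (H10Coh.Tw.assoc A _ _) (Iso.refl L))
  have nonpos : ∀ {L : X.Modules}, NT k L → ψ L A ≤ 0 := by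
    intro L hL
    by_contra hpos
    push_neg at hpos
    let c := Curv2.euler k X (Pic13.twistOn k i A (m : ℤ))
    let j : ℕ := ((B * (m + (r + 1)).choose (r + 1) : ℕ) + 1 - c).toNat
    have h1 := h0 _ (hL.pow k j) m
    have h2 := hEuler _ (hL.pow k j) (m : ℤ) (by omega)
    rw [lin hL] at h2
    have h3 : (j : ℤ) ≤ j * ψ L A := le_mul_of_one_le_right (Int.natCast_nonneg j) hpos
    have h4 := Int.self_le_toNat ((B * (m + (r + 1)).choose (r + 1) : ℕ) + 1 - c : ℤ)
    omega
  have hzero : ∀ {L : X.Modules}, NT k L → ψ L A = 0 := by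
    intro L hL
    obtain ⟨L', hL', ⟨e⟩⟩ := hL.exists_inverse k
    have h := step (N := L) hL' hL.inv
    rw [H25Euler.euler_congr (H10Coh.Tw.assoc A L L' ≪≫ PicGrp.tensorModIso (Iso.refl A) e ≪≫
      H10Coh.Tw.rightUnitIso A), H25Euler.euler_congr (H10Coh.Tw.commIso A L)] at h
    have h1 := nonpos hL
    have h2 := nonpos hL'
    simp only [ψ] at h h1 h2 ⊢
    omega
  have hchi : ∀ L, NT k L → ∀ d : ℤ,
      Curv2.euler k X (Pic13.twistOn k i (M L) d) = Curv2.euler k X (Pic13.twistOn k i A d) := by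
    intro L hL d
    have h := step (N := TwistOn.O i d) hL (fam.inv d)
    rw [hzero hL, add_zero] at h
    exact (H25Euler.euler_congr (swapIso A L (TwistOn.O i d))).trans h
  -- uniform regularity
  let β : ℕ := ((B * (m - 1 + (r + 1)).choose (r + 1) : ℕ) -
    Curv2.euler k X (Pic13.twistOn k i A ((m : ℤ) - 1)) : ℤ).toNat
  refine ⟨⟨B, h0⟩, ⟨m + β, fun L hL => ?_⟩, fun L hL => ?_⟩
  · obtain ⟨f', g', w', hS'⟩ := seq hL.inv
    refine regular_mono k i (hM hL.inv) ?_ (S12112.result k n X i hi (M L) _ (hM hL.inv)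
      (H11Ample.isCoh_tensor hG hL.inv) f' g' w' hS' m (hGm L hL)).2.2.2
    have h1 := h0 L hL (m - 1)
    have h2 := hEuler L hL ((m : ℤ) - 1) le_rfl
    rw [hchi L hL] at h2
    have hm1 : ((m - 1 : ℕ) : ℤ) = (m : ℤ) - 1 := by omega
    rw [hm1] at h1
    have h4 : ((B * (m - 1 + (r + 1)).choose (r + 1) : ℕ) : ℤ) -
        Curv2.euler k X (Pic13.twistOn k i A ((m : ℤ) - 1)) ≤ (β : ℤ) := Int.self_le_toNat _
    simp only [hd] at h1 h2
    omega
  · have h := hzero hL
    simp only [ψ] at h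
    rw [H25Euler.euler_congr (H10Coh.Tw.commIso A L)]
    omega

/-- The dévissage. -/
theorem good : ∀ (r : ℕ) (F : X.Modules), Coh.IsCoh F →
    topologicalKrullDim (CohB1.support F) ≤ (r : WithBot ℕ∞) → Good k i r F
  | 0, _, hF, hd' => good_zero k i hF hd'
  | r + 1, F, hF, hd' => by
    haveI := H28Int.isNoetherian k (X := X)
    refine LeadDev.devissage_induction (CohB1.support F) (Good k i (r + 1)) (fun _ _ ⟨e⟩ h => h.congr k i e)
      (fun _ h => Good.of_isZero k i (r + 1) h) (fun S hS h₁ h₂ h₃ g₁ g₃ => Good.ext k i hS h₁ h₂ h₃ g₁ g₃)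
      ?_ F hF le_rfl
    intro Z ζ _ _ hsub _ I ι _ hI
    haveI : I.IsQuasicoherent := hI
    let A := (Coh.push ζ).obj I
    have hA : Coh.IsCoh A := H10Coh.isCoh_of_mono ((Coh.push ζ).map ι)
      (H10Coh.isQuasicoherent_pushforward ζ I) (LeadDev.isCoh_push_structure ζ)
    have hAs : CohB1.support A ⊆ Set.range ζ := fun x hx => by
      by_contra hxr
      exact LeadDev.notMem_support_push ζ I hxr hx
    by_cases hr : topologicalKrullDim (Set.range ζ) ≤ (r : WithBot ℕ∞)
    · exact (good r A hA ((H28Int.dim_le_of_subset hAs).trans hr)).mono k i (Nat.le_succ r)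
    exact good_integral k i hi (fun G hG hGd => good r G hG hGd) ζ
      (eq_succ_dim ((H28Int.dim_le_of_subset hsub).trans hd') hr) hA hAs ((Coh.push ζ).map ι)

/-- The bundle for an arbitrary coherent module, with a bound on the dimension of the scheme. -/
theorem good_of_dim {r : ℕ} (hr : topologicalKrullDim X ≤ (r : WithBot ℕ∞)) {F : X.Modules} (hF : Coh.IsCoh F) :
    Good k i r F :=
  good k i hi r F hF ((Topology.IsInducing.subtypeVal.topologicalKrullDim_le).trans hr)

end Groth.Agent.H12Pic.NumTriv
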